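import Cfsg.Agent.Lib.ToddCox.SuzC0.Data0
set_option autoImplicit false
set_option maxRecDepth 100000
namespace Cfsg.Agent.Lib.ToddCox.SuzC0
def eT_0_2 (j : ℕ) : ℕ := bif Nat.blt j 1 then E_0 else E_1
def eT_3_5 (j : ℕ) : ℕ := bif Nat.blt j 4 then E_3 else E_4
def eT_2_5 (j : ℕ) : ℕ := bif Nat.blt j 3 then E_2 else (eT_3_5 j)
def eT_0_5 (j : ℕ) : ℕ := bif Nat.blt j 2 then (eT_0_2 j) else (eT_2_5 j)
def eT_6_8 (j : ℕ) : ℕ := bif Nat.blt j 7 then E_6 else E_7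
def eT_5_8 (j : ℕ) : ℕ := bif Nat.blt j 6 then E_5 else (eT_6_8 j)
def eT_9_11 (j : ℕ) : ℕ := bif Nat.blt j 10 then E_9 else E_10
def eT_8_11 (j : ℕ) : ℕ := bif Nat.blt j 9 then E_8 else (eT_9_11 j)
def eT_5_11 (j : ℕ) : ℕ := bif Nat.blt j 8 then (eT_5_8 j) else (eT_8_11 j)
def eT_0_11 (j : ℕ) : ℕ := bif Nat.blt j 5 then (eT_0_5 j) else (eT_5_11 j)
def eT_12_14 (j : ℕ) : ℕ := bif Nat.blt j 13 then E_12 else E_13
def eT_11_14 (j : ℕ) : ℕ := bif Nat.blt j 12 then E_11 else (eT_12_14 j)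
def eT_15_17 (j : ℕ) : ℕ := bif Nat.blt j 16 then E_15 else E_16
def eT_14_17 (j : ℕ) : ℕ := bif Nat.blt j 15 then E_14 else (eT_15_17 j)
def eT_11_17 (j : ℕ) : ℕ := bif Nat.blt j 14 then (eT_11_14 j) else (eT_14_17 j)
def eT_18_20 (j : ℕ) : ℕ := bif Nat.blt j 19 then E_18 else E_19
def eT_17_20 (j : ℕ) : ℕ := bif Nat.blt j 18 then E_17 else (eT_18_20 j)
def eT_21_23 (j : ℕ) : ℕ := bif Nat.blt j 22 then E_21 else E_22
def eT_20_23 (j : ℕ) : ℕ := bif Nat.blt j 21 then E_20 else (eT_21_23 j)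
def eT_17_23 (j : ℕ) : ℕ := bif Nat.blt j 20 then (eT_17_20 j) else (eT_20_23 j)
def eT_11_23 (j : ℕ) : ℕ := bif Nat.blt j 17 then (eT_11_17 j) else (eT_17_23 j)
def eT_0_23 (j : ℕ) : ℕ := bif Nat.blt j 11 then (eT_0_11 j) else (eT_11_23 j)
def eT_23_25 (j : ℕ) : ℕ := bif Nat.blt j 24 then E_23 else E_24
def eT_26_28 (j : ℕ) : ℕ := bif Nat.blt j 27 then E_26 else E_27
def eT_25_28 (j : ℕ) : ℕ := bif Nat.blt j 26 then E_25 else (eT_26_28 j)
def eT_23_28 (j : ℕ) : ℕ := bif Nat.blt j 25 then (eT_23_25 j) else (eT_25_28 j)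
def eT_29_31 (j : ℕ) : ℕ := bif Nat.blt j 30 then E_29 else E_30
def eT_28_31 (j : ℕ) : ℕ := bif Nat.blt j 29 then E_28 else (eT_29_31 j)
def eT_32_34 (j : ℕ) : ℕ := bif Nat.blt j 33 then E_32 else E_33
def eT_31_34 (j : ℕ) : ℕ := bif Nat.blt j 32 then E_31 else (eT_32_34 j)
def eT_28_34 (j : ℕ) : ℕ := bif Nat.blt j 31 then (eT_28_31 j) else (eT_31_34 j)
def eT_23_34 (j : ℕ) : ℕ := bif Nat.blt j 28 then (eT_23_28 j) else (eT_28_34 j)
def eT_35_37 (j : ℕ) : ℕ := bif Nat.blt j 36 then E_35 else E_36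
def eT_34_37 (j : ℕ) : ℕ := bif Nat.blt j 35 then E_34 else (eT_35_37 j)
def eT_38_40 (j : ℕ) : ℕ := bif Nat.blt j 39 then E_38 else E_39
def eT_37_40 (j : ℕ) : ℕ := bif Nat.blt j 38 then E_37 else (eT_38_40 j)
def eT_34_40 (j : ℕ) : ℕ := bif Nat.blt j 37 then (eT_34_37 j) else (eT_37_40 j)
def eT_41_43 (j : ℕ) : ℕ := bif Nat.blt j 42 then E_41 else E_42
def eT_40_43 (j : ℕ) : ℕ := bif Nat.blt j 41 then E_40 else (eT_41_43 j)
def eT_44_46 (j : ℕ) : ℕ := bif Nat.blt j 45 then E_44 else E_45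
def eT_43_46 (j : ℕ) : ℕ := bif Nat.blt j 44 then E_43 else (eT_44_46 j)
def eT_40_46 (j : ℕ) : ℕ := bif Nat.blt j 43 then (eT_40_43 j) else (eT_43_46 j)
def eT_34_46 (j : ℕ) : ℕ := bif Nat.blt j 40 then (eT_34_40 j) else (eT_40_46 j)
def eT_23_46 (j : ℕ) : ℕ := bif Nat.blt j 34 then (eT_23_34 j) else (eT_34_46 j)
def eT_0_46 (j : ℕ) : ℕ := bif Nat.blt j 23 then (eT_0_23 j) else (eT_23_46 j)
def eT_46_48 (j : ℕ) : ℕ := bif Nat.blt j 47 then E_46 else E_47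
def eT_49_51 (j : ℕ) : ℕ := bif Nat.blt j 50 then E_49 else E_50
def eT_48_51 (j : ℕ) : ℕ := bif Nat.blt j 49 then E_48 else (eT_49_51 j)
def eT_46_51 (j : ℕ) : ℕ := bif Nat.blt j 48 then (eT_46_48 j) else (eT_48_51 j)
def eT_52_54 (j : ℕ) : ℕ := bif Nat.blt j 53 then E_52 else E_53
def eT_51_54 (j : ℕ) : ℕ := bif Nat.blt j 52 then E_51 else (eT_52_54 j)
def eT_55_57 (j : ℕ) : ℕ := bif Nat.blt j 56 then E_55 else E_56
def eT_54_57 (j : ℕ) : ℕ := bif Nat.blt j 55 then E_54 else (eT_55_57 j)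
def eT_51_57 (j : ℕ) : ℕ := bif Nat.blt j 54 then (eT_51_54 j) else (eT_54_57 j)
def eT_46_57 (j : ℕ) : ℕ := bif Nat.blt j 51 then (eT_46_51 j) else (eT_51_57 j)
def eT_58_60 (j : ℕ) : ℕ := bif Nat.blt j 59 then E_58 else E_59
def eT_57_60 (j : ℕ) : ℕ := bif Nat.blt j 58 then E_57 else (eT_58_60 j)
def eT_61_63 (j : ℕ) : ℕ := bif Nat.blt j 62 then E_61 else E_62
def eT_60_63 (j : ℕ) : ℕ := bif Nat.blt j 61 then E_60 else (eT_61_63 j)
def eT_57_63 (j : ℕ) : ℕ := bif Nat.blt j 60 then (eT_57_60 j) else (eT_60_63 j)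
def eT_64_66 (j : ℕ) : ℕ := bif Nat.blt j 65 then E_64 else E_65
def eT_63_66 (j : ℕ) : ℕ := bif Nat.blt j 64 then E_63 else (eT_64_66 j)
def eT_67_69 (j : ℕ) : ℕ := bif Nat.blt j 68 then E_67 else E_68
def eT_66_69 (j : ℕ) : ℕ := bif Nat.blt j 67 then E_66 else (eT_67_69 j)
def eT_63_69 (j : ℕ) : ℕ := bif Nat.blt j 66 then (eT_63_66 j) else (eT_66_69 j)
def eT_57_69 (j : ℕ) : ℕ := bif Nat.blt j 63 then (eT_57_63 j) else (eT_63_69 j)
def eT_46_69 (j : ℕ) : ℕ := bif Nat.blt j 57 then (eT_46_57 j) else (eT_57_69 j)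
def eT_69_71 (j : ℕ) : ℕ := bif Nat.blt j 70 then E_69 else E_70
def eT_72_74 (j : ℕ) : ℕ := bif Nat.blt j 73 then E_72 else E_73
def eT_71_74 (j : ℕ) : ℕ := bif Nat.blt j 72 then E_71 else (eT_72_74 j)
def eT_69_74 (j : ℕ) : ℕ := bif Nat.blt j 71 then (eT_69_71 j) else (eT_71_74 j)
def eT_75_77 (j : ℕ) : ℕ := bif Nat.blt j 76 then E_75 else E_76
def eT_74_77 (j : ℕ) : ℕ := bif Nat.blt j 75 then E_74 else (eT_75_77 j)
def eT_78_80 (j : ℕ) : ℕ := bif Nat.blt j 79 then E_78 else E_79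
def eT_77_80 (j : ℕ) : ℕ := bif Nat.blt j 78 then E_77 else (eT_78_80 j)
def eT_74_80 (j : ℕ) : ℕ := bif Nat.blt j 77 then (eT_74_77 j) else (eT_77_80 j)
def eT_69_80 (j : ℕ) : ℕ := bif Nat.blt j 74 then (eT_69_74 j) else (eT_74_80 j)
def eT_81_83 (j : ℕ) : ℕ := bif Nat.blt j 82 then E_81 else E_82
def eT_80_83 (j : ℕ) : ℕ := bif Nat.blt j 81 then E_80 else (eT_81_83 j)
def eT_84_86 (j : ℕ) : ℕ := bif Nat.blt j 85 then E_84 else E_85
def eT_83_86 (j : ℕ) : ℕ := bif Nat.blt j 84 then E_83 else (eT_84_86 j)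
def eT_80_86 (j : ℕ) : ℕ := bif Nat.blt j 83 then (eT_80_83 j) else (eT_83_86 j)
def eT_87_89 (j : ℕ) : ℕ := bif Nat.blt j 88 then E_87 else E_88
def eT_86_89 (j : ℕ) : ℕ := bif Nat.blt j 87 then E_86 else (eT_87_89 j)
def eT_90_92 (j : ℕ) : ℕ := bif Nat.blt j 91 then E_90 else E_91
def eT_89_92 (j : ℕ) : ℕ := bif Nat.blt j 90 then E_89 else (eT_90_92 j)
def eT_86_92 (j : ℕ) : ℕ := bif Nat.blt j 89 then (eT_86_89 j) else (eT_89_92 j)
def eT_80_92 (j : ℕ) : ℕ := bif Nat.blt j 86 then (eT_80_86 j) else (eT_86_92 j)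
def eT_69_92 (j : ℕ) : ℕ := bif Nat.blt j 80 then (eT_69_80 j) else (eT_80_92 j)
def eT_46_92 (j : ℕ) : ℕ := bif Nat.blt j 69 then (eT_46_69 j) else (eT_69_92 j)
def eT_0_92 (j : ℕ) : ℕ := bif Nat.blt j 46 then (eT_0_46 j) else (eT_46_92 j)
def eT_92_94 (j : ℕ) : ℕ := bif Nat.blt j 93 then E_92 else E_93
def eT_95_97 (j : ℕ) : ℕ := bif Nat.blt j 96 then E_95 else E_96
def eT_94_97 (j : ℕ) : ℕ := bif Nat.blt j 95 then E_94 else (eT_95_97 j)
def eT_92_97 (j : ℕ) : ℕ := bif Nat.blt j 94 then (eT_92_94 j) else (eT_94_97 j)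
def eT_98_100 (j : ℕ) : ℕ := bif Nat.blt j 99 then E_98 else E_99
def eT_97_100 (j : ℕ) : ℕ := bif Nat.blt j 98 then E_97 else (eT_98_100 j)
def eT_101_103 (j : ℕ) : ℕ := bif Nat.blt j 102 then E_101 else E_102
def eT_100_103 (j : ℕ) : ℕ := bif Nat.blt j 101 then E_100 else (eT_101_103 j)
def eT_97_103 (j : ℕ) : ℕ := bif Nat.blt j 100 then (eT_97_100 j) else (eT_100_103 j)
def eT_92_103 (j : ℕ) : ℕ := bif Nat.blt j 97 then (eT_92_97 j) else (eT_97_103 j)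
def eT_104_106 (j : ℕ) : ℕ := bif Nat.blt j 105 then E_104 else E_105
def eT_103_106 (j : ℕ) : ℕ := bif Nat.blt j 104 then E_103 else (eT_104_106 j)
def eT_107_109 (j : ℕ) : ℕ := bif Nat.blt j 108 then E_107 else E_108
def eT_106_109 (j : ℕ) : ℕ := bif Nat.blt j 107 then E_106 else (eT_107_109 j)
def eT_103_109 (j : ℕ) : ℕ := bif Nat.blt j 106 then (eT_103_106 j) else (eT_106_109 j)
def eT_110_112 (j : ℕ) : ℕ := bif Nat.blt j 111 then E_110 else E_111
def eT_109_112 (j : ℕ) : ℕ := bif Nat.blt j 110 then E_109 else (eT_110_112 j)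
def eT_113_115 (j : ℕ) : ℕ := bif Nat.blt j 114 then E_113 else E_114
def eT_112_115 (j : ℕ) : ℕ := bif Nat.blt j 113 then E_112 else (eT_113_115 j)
def eT_109_115 (j : ℕ) : ℕ := bif Nat.blt j 112 then (eT_109_112 j) else (eT_112_115 j)
def eT_103_115 (j : ℕ) : ℕ := bif Nat.blt j 109 then (eT_103_109 j) else (eT_109_115 j)
def eT_92_115 (j : ℕ) : ℕ := bif Nat.blt j 103 then (eT_92_103 j) else (eT_103_115 j)
def eT_115_117 (j : ℕ) : ℕ := bif Nat.blt j 116 then E_115 else E_116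
def eT_118_120 (j : ℕ) : ℕ := bif Nat.blt j 119 then E_118 else E_119
def eT_117_120 (j : ℕ) : ℕ := bif Nat.blt j 118 then E_117 else (eT_118_120 j)
def eT_115_120 (j : ℕ) : ℕ := bif Nat.blt j 117 then (eT_115_117 j) else (eT_117_120 j)
def eT_121_123 (j : ℕ) : ℕ := bif Nat.blt j 122 then E_121 else E_122
def eT_120_123 (j : ℕ) : ℕ := bif Nat.blt j 121 then E_120 else (eT_121_123 j)
def eT_124_126 (j : ℕ) : ℕ := bif Nat.blt j 125 then E_124 else E_125
def eT_123_126 (j : ℕ) : ℕ := bif Nat.blt j 124 then E_123 else (eT_124_126 j)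
def eT_120_126 (j : ℕ) : ℕ := bif Nat.blt j 123 then (eT_120_123 j) else (eT_123_126 j)
def eT_115_126 (j : ℕ) : ℕ := bif Nat.blt j 120 then (eT_115_120 j) else (eT_120_126 j)
def eT_127_129 (j : ℕ) : ℕ := bif Nat.blt j 128 then E_127 else E_128
def eT_126_129 (j : ℕ) : ℕ := bif Nat.blt j 127 then E_126 else (eT_127_129 j)
def eT_130_132 (j : ℕ) : ℕ := bif Nat.blt j 131 then E_130 else E_131
def eT_129_132 (j : ℕ) : ℕ := bif Nat.blt j 130 then E_129 else (eT_130_132 j)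
def eT_126_132 (j : ℕ) : ℕ := bif Nat.blt j 129 then (eT_126_129 j) else (eT_129_132 j)
def eT_133_135 (j : ℕ) : ℕ := bif Nat.blt j 134 then E_133 else E_134
def eT_132_135 (j : ℕ) : ℕ := bif Nat.blt j 133 then E_132 else (eT_133_135 j)
def eT_136_138 (j : ℕ) : ℕ := bif Nat.blt j 137 then E_136 else E_137
def eT_135_138 (j : ℕ) : ℕ := bif Nat.blt j 136 then E_135 else (eT_136_138 j)
def eT_132_138 (j : ℕ) : ℕ := bif Nat.blt j 135 then (eT_132_135 j) else (eT_135_138 j)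
def eT_126_138 (j : ℕ) : ℕ := bif Nat.blt j 132 then (eT_126_132 j) else (eT_132_138 j)
def eT_115_138 (j : ℕ) : ℕ := bif Nat.blt j 126 then (eT_115_126 j) else (eT_126_138 j)
def eT_92_138 (j : ℕ) : ℕ := bif Nat.blt j 115 then (eT_92_115 j) else (eT_115_138 j)
def eT_138_140 (j : ℕ) : ℕ := bif Nat.blt j 139 then E_138 else E_139
def eT_141_143 (j : ℕ) : ℕ := bif Nat.blt j 142 then E_141 else E_142
def eT_140_143 (j : ℕ) : ℕ := bif Nat.blt j 141 then E_140 else (eT_141_143 j)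
def eT_138_143 (j : ℕ) : ℕ := bif Nat.blt j 140 then (eT_138_140 j) else (eT_140_143 j)
def eT_144_146 (j : ℕ) : ℕ := bif Nat.blt j 145 then E_144 else E_145
def eT_143_146 (j : ℕ) : ℕ := bif Nat.blt j 144 then E_143 else (eT_144_146 j)
def eT_147_149 (j : ℕ) : ℕ := bif Nat.blt j 148 then E_147 else E_148
def eT_146_149 (j : ℕ) : ℕ := bif Nat.blt j 147 then E_146 else (eT_147_149 j)
def eT_143_149 (j : ℕ) : ℕ := bif Nat.blt j 146 then (eT_143_146 j) else (eT_146_149 j)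
def eT_138_149 (j : ℕ) : ℕ := bif Nat.blt j 143 then (eT_138_143 j) else (eT_143_149 j)
def eT_150_152 (j : ℕ) : ℕ := bif Nat.blt j 151 then E_150 else E_151
def eT_149_152 (j : ℕ) : ℕ := bif Nat.blt j 150 then E_149 else (eT_150_152 j)
def eT_153_155 (j : ℕ) : ℕ := bif Nat.blt j 154 then E_153 else E_154
def eT_152_155 (j : ℕ) : ℕ := bif Nat.blt j 153 then E_152 else (eT_153_155 j)
def eT_149_155 (j : ℕ) : ℕ := bif Nat.blt j 152 then (eT_149_152 j) else (eT_152_155 j)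
def eT_156_158 (j : ℕ) : ℕ := bif Nat.blt j 157 then E_156 else E_157
def eT_155_158 (j : ℕ) : ℕ := bif Nat.blt j 156 then E_155 else (eT_156_158 j)
def eT_159_161 (j : ℕ) : ℕ := bif Nat.blt j 160 then E_159 else E_160
def eT_158_161 (j : ℕ) : ℕ := bif Nat.blt j 159 then E_158 else (eT_159_161 j)
def eT_155_161 (j : ℕ) : ℕ := bif Nat.blt j 158 then (eT_155_158 j) else (eT_158_161 j)
def eT_149_161 (j : ℕ) : ℕ := bif Nat.blt j 155 then (eT_149_155 j) else (eT_155_161 j)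
def eT_138_161 (j : ℕ) : ℕ := bif Nat.blt j 149 then (eT_138_149 j) else (eT_149_161 j)
def eT_161_163 (j : ℕ) : ℕ := bif Nat.blt j 162 then E_161 else E_162
def eT_164_166 (j : ℕ) : ℕ := bif Nat.blt j 165 then E_164 else E_165
def eT_163_166 (j : ℕ) : ℕ := bif Nat.blt j 164 then E_163 else (eT_164_166 j)
def eT_161_166 (j : ℕ) : ℕ := bif Nat.blt j 163 then (eT_161_163 j) else (eT_163_166 j)
def eT_167_169 (j : ℕ) : ℕ := bif Nat.blt j 168 then E_167 else E_168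
def eT_166_169 (j : ℕ) : ℕ := bif Nat.blt j 167 then E_166 else (eT_167_169 j)
def eT_170_172 (j : ℕ) : ℕ := bif Nat.blt j 171 then E_170 else E_171
def eT_169_172 (j : ℕ) : ℕ := bif Nat.blt j 170 then E_169 else (eT_170_172 j)
def eT_166_172 (j : ℕ) : ℕ := bif Nat.blt j 169 then (eT_166_169 j) else (eT_169_172 j)
def eT_161_172 (j : ℕ) : ℕ := bif Nat.blt j 166 then (eT_161_166 j) else (eT_166_172 j)
def eT_173_175 (j : ℕ) : ℕ := bif Nat.blt j 174 then E_173 else E_174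
def eT_172_175 (j : ℕ) : ℕ := bif Nat.blt j 173 then E_172 else (eT_173_175 j)
def eT_176_178 (j : ℕ) : ℕ := bif Nat.blt j 177 then E_176 else E_177
def eT_175_178 (j : ℕ) : ℕ := bif Nat.blt j 176 then E_175 else (eT_176_178 j)
def eT_172_178 (j : ℕ) : ℕ := bif Nat.blt j 175 then (eT_172_175 j) else (eT_175_178 j)
def eT_179_181 (j : ℕ) : ℕ := bif Nat.blt j 180 then E_179 else E_180
def eT_178_181 (j : ℕ) : ℕ := bif Nat.blt j 179 then E_178 else (eT_179_181 j)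
def eT_182_184 (j : ℕ) : ℕ := bif Nat.blt j 183 then E_182 else E_183
def eT_181_184 (j : ℕ) : ℕ := bif Nat.blt j 182 then E_181 else (eT_182_184 j)
def eT_178_184 (j : ℕ) : ℕ := bif Nat.blt j 181 then (eT_178_181 j) else (eT_181_184 j)
def eT_172_184 (j : ℕ) : ℕ := bif Nat.blt j 178 then (eT_172_178 j) else (eT_178_184 j)
def eT_161_184 (j : ℕ) : ℕ := bif Nat.blt j 172 then (eT_161_172 j) else (eT_172_184 j)
def eT_138_184 (j : ℕ) : ℕ := bif Nat.blt j 161 then (eT_138_161 j) else (eT_161_184 j)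
def eT_92_184 (j : ℕ) : ℕ := bif Nat.blt j 138 then (eT_92_138 j) else (eT_138_184 j)
def eT_0_184 (j : ℕ) : ℕ := bif Nat.blt j 92 then (eT_0_92 j) else (eT_92_184 j)
def eT (j : ℕ) : ℕ := (eT_0_184 j)
noncomputable def chunkF (h : ℕ) : ℕ := Nat.rec (motive := fun _ => ℕ) (eT 0) (fun n _ => eT (Nat.succ n)) h
noncomputable def Eo (r : ℕ) : ℕ := Nat.land (Nat.shiftRight (chunkF (Nat.shiftRight r 8)) (Nat.mul (Nat.land r 255) 54)) 18014398509481983
def invT : ℕ := 0xffef7cefae78df6d74cf2c70beeb6caeaa689e69648e28607de75c6da6585d65544d24503ce34c2ca2481c61440c2040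
def inv (y : ℕ) : ℕ := invOf invT y
def Wt_0_2 (j : ℕ) : List ℕ := bif Nat.blt j 1 then [nat_lit 0, nat_lit 6, nat_lit 0, nat_lit 6] else [nat_lit 2, nat_lit 6, nat_lit 2, nat_lit 6]
def Wt_3_5 (j : ℕ) : List ℕ := bif Nat.blt j 4 then [nat_lit 4, nat_lit 6, nat_lit 4, nat_lit 6] else [nat_lit 5, nat_lit 6, nat_lit 0, nat_lit 5, nat_lit 6]
def Wt_2_5 (j : ℕ) : List ℕ := bif Nat.blt j 3 then [nat_lit 3, nat_lit 6, nat_lit 3, nat_lit 6] else (Wt_3_5 j)
def Wt_0_5 (j : ℕ) : List ℕ := bif Nat.blt j 2 then (Wt_0_2 j) else (Wt_2_5 j)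
def Wt_5_7 (j : ℕ) : List ℕ := bif Nat.blt j 6 then [nat_lit 3, nat_lit 1, nat_lit 3, nat_lit 1] else [nat_lit 4, nat_lit 1, nat_lit 4, nat_lit 1]
def Wt_8_10 (j : ℕ) : List ℕ := bif Nat.blt j 9 then [nat_lit 3, nat_lit 0, nat_lit 3, nat_lit 0] else [nat_lit 4, nat_lit 0, nat_lit 4, nat_lit 0]
def Wt_7_10 (j : ℕ) : List ℕ := bif Nat.blt j 8 then [nat_lit 6, nat_lit 1, nat_lit 6, nat_lit 1, nat_lit 6, nat_lit 1] else (Wt_8_10 j)
def Wt_5_10 (j : ℕ) : List ℕ := bif Nat.blt j 7 then (Wt_5_7 j) else (Wt_7_10 j)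
def Wt_0_10 (j : ℕ) : List ℕ := bif Nat.blt j 5 then (Wt_0_5 j) else (Wt_5_10 j)
def Wt_10_12 (j : ℕ) : List ℕ := bif Nat.blt j 11 then [nat_lit 6, nat_lit 0, nat_lit 6, nat_lit 0] else [nat_lit 1, nat_lit 2, nat_lit 1, nat_lit 2, nat_lit 1, nat_lit 2]
def Wt_13_15 (j : ℕ) : List ℕ := bif Nat.blt j 14 then [nat_lit 6, nat_lit 2, nat_lit 6, nat_lit 2] else [nat_lit 1, nat_lit 5, nat_lit 1, nat_lit 5, nat_lit 1, nat_lit 5]
def Wt_12_15 (j : ℕ) : List ℕ := bif Nat.blt j 13 then [nat_lit 4, nat_lit 2, nat_lit 4, nat_lit 2] else (Wt_13_15 j)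
def Wt_10_15 (j : ℕ) : List ℕ := bif Nat.blt j 12 then (Wt_10_12 j) else (Wt_12_15 j)
def Wt_15_17 (j : ℕ) : List ℕ := bif Nat.blt j 16 then [nat_lit 3, nat_lit 5, nat_lit 3, nat_lit 5] else [nat_lit 4, nat_lit 5, nat_lit 4, nat_lit 5]
def Wt_18_20 (j : ℕ) : List ℕ := bif Nat.blt j 19 then [nat_lit 0, nat_lit 5, nat_lit 0, nat_lit 5] else [nat_lit 6, nat_lit 5, nat_lit 6, nat_lit 0, nat_lit 5]
def Wt_17_20 (j : ℕ) : List ℕ := bif Nat.blt j 18 then [nat_lit 0, nat_lit 2, nat_lit 0, nat_lit 2] else (Wt_18_20 j)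
def Wt_15_20 (j : ℕ) : List ℕ := bif Nat.blt j 17 then (Wt_15_17 j) else (Wt_17_20 j)
def Wt_10_20 (j : ℕ) : List ℕ := bif Nat.blt j 15 then (Wt_10_15 j) else (Wt_15_20 j)
def Wt_0_20 (j : ℕ) : List ℕ := bif Nat.blt j 10 then (Wt_0_10 j) else (Wt_10_20 j)
def Wt_20_22 (j : ℕ) : List ℕ := bif Nat.blt j 21 then [nat_lit 63, nat_lit 1, nat_lit 5, nat_lit 6, nat_lit 1, nat_lit 5, nat_lit 6, nat_lit 1, nat_lit 5, nat_lit 6, nat_lit 1, nat_lit 5, nat_lit 6, nat_lit 1, nat_lit 5, nat_lit 6] else [nat_lit 0, nat_lit 0, nat_lit 63]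
def Wt_23_25 (j : ℕ) : List ℕ := bif Nat.blt j 24 then [nat_lit 6, nat_lit 6, nat_lit 63] else [nat_lit 1, nat_lit 3, nat_lit 1, nat_lit 3]
def Wt_22_25 (j : ℕ) : List ℕ := bif Nat.blt j 23 then [nat_lit 5, nat_lit 5, nat_lit 63] else (Wt_23_25 j)
def Wt_20_25 (j : ℕ) : List ℕ := bif Nat.blt j 22 then (Wt_20_22 j) else (Wt_22_25 j)
def Wt_25_27 (j : ℕ) : List ℕ := bif Nat.blt j 26 then [nat_lit 6, nat_lit 3, nat_lit 6, nat_lit 3] else [nat_lit 2, nat_lit 5, nat_lit 2, nat_lit 5]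
def Wt_28_30 (j : ℕ) : List ℕ := bif Nat.blt j 29 then [nat_lit 0, nat_lit 3, nat_lit 0, nat_lit 3] else [nat_lit 1, nat_lit 4, nat_lit 1, nat_lit 4]
def Wt_27_30 (j : ℕ) : List ℕ := bif Nat.blt j 28 then [nat_lit 5, nat_lit 2, nat_lit 5, nat_lit 2] else (Wt_28_30 j)
def Wt_25_30 (j : ℕ) : List ℕ := bif Nat.blt j 27 then (Wt_25_27 j) else (Wt_27_30 j)
def Wt_20_30 (j : ℕ) : List ℕ := bif Nat.blt j 25 then (Wt_20_25 j) else (Wt_25_30 j)
def Wt_30_32 (j : ℕ) : List ℕ := bif Nat.blt j 31 then [nat_lit 3, nat_lit 4, nat_lit 3, nat_lit 4, nat_lit 3, nat_lit 4] else [nat_lit 6, nat_lit 4, nat_lit 6, nat_lit 4]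
def Wt_33_35 (j : ℕ) : List ℕ := bif Nat.blt j 34 then [nat_lit 5, nat_lit 1, nat_lit 5, nat_lit 1, nat_lit 5, nat_lit 1] else [nat_lit 0, nat_lit 5, nat_lit 2, nat_lit 1, nat_lit 0, nat_lit 5, nat_lit 2, nat_lit 1, nat_lit 0, nat_lit 5, nat_lit 2, nat_lit 1, nat_lit 0, nat_lit 5, nat_lit 2, nat_lit 1, nat_lit 0, nat_lit 5, nat_lit 2, nat_lit 1]
def Wt_32_35 (j : ℕ) : List ℕ := bif Nat.blt j 33 then [nat_lit 2, nat_lit 1, nat_lit 2, nat_lit 1, nat_lit 2, nat_lit 1] else (Wt_33_35 j)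
def Wt_30_35 (j : ℕ) : List ℕ := bif Nat.blt j 32 then (Wt_30_32 j) else (Wt_32_35 j)
def Wt_36_38 (j : ℕ) : List ℕ := bif Nat.blt j 37 then [nat_lit 1, nat_lit 6, nat_lit 1, nat_lit 6, nat_lit 1, nat_lit 6] else [nat_lit 3, nat_lit 2, nat_lit 3, nat_lit 2, nat_lit 3, nat_lit 2, nat_lit 3, nat_lit 0, nat_lit 2]
def Wt_35_38 (j : ℕ) : List ℕ := bif Nat.blt j 36 then [nat_lit 5, nat_lit 3, nat_lit 5, nat_lit 3] else (Wt_36_38 j)
def Wt_39_41 (j : ℕ) : List ℕ := bif Nat.blt j 40 then [nat_lit 2, nat_lit 4, nat_lit 2, nat_lit 4] else [nat_lit 2, nat_lit 0, nat_lit 2, nat_lit 0]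
def Wt_38_41 (j : ℕ) : List ℕ := bif Nat.blt j 39 then [nat_lit 0, nat_lit 4, nat_lit 0, nat_lit 4] else (Wt_39_41 j)
def Wt_35_41 (j : ℕ) : List ℕ := bif Nat.blt j 38 then (Wt_35_38 j) else (Wt_38_41 j)
def Wt_30_41 (j : ℕ) : List ℕ := bif Nat.blt j 35 then (Wt_30_35 j) else (Wt_35_41 j)
def Wt_20_41 (j : ℕ) : List ℕ := bif Nat.blt j 30 then (Wt_20_30 j) else (Wt_30_41 j)
def Wt_0_41 (j : ℕ) : List ℕ := bif Nat.blt j 20 then (Wt_0_20 j) else (Wt_20_41 j)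
def Wt_41_43 (j : ℕ) : List ℕ := bif Nat.blt j 42 then [nat_lit 6, nat_lit 1, nat_lit 5, nat_lit 6, nat_lit 1, nat_lit 5, nat_lit 6, nat_lit 1, nat_lit 5, nat_lit 6, nat_lit 1, nat_lit 5, nat_lit 6, nat_lit 1, nat_lit 5] else [nat_lit 63, nat_lit 6, nat_lit 5, nat_lit 6, nat_lit 5, nat_lit 0]
def Wt_44_46 (j : ℕ) : List ℕ := bif Nat.blt j 45 then [nat_lit 63, nat_lit 2, nat_lit 63, nat_lit 2] else [nat_lit 2, nat_lit 2, nat_lit 63]
def Wt_43_46 (j : ℕ) : List ℕ := bif Nat.blt j 44 then [nat_lit 1, nat_lit 1, nat_lit 63] else (Wt_44_46 j)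
def Wt_41_46 (j : ℕ) : List ℕ := bif Nat.blt j 43 then (Wt_41_43 j) else (Wt_43_46 j)
def Wt_46_48 (j : ℕ) : List ℕ := bif Nat.blt j 47 then [nat_lit 5, nat_lit 4, nat_lit 5, nat_lit 4] else [nat_lit 6, nat_lit 5, nat_lit 6, nat_lit 5, nat_lit 6, nat_lit 5, nat_lit 6, nat_lit 5]
def Wt_49_51 (j : ℕ) : List ℕ := bif Nat.blt j 50 then [nat_lit 4, nat_lit 3, nat_lit 4, nat_lit 3, nat_lit 4, nat_lit 3] else [nat_lit 2, nat_lit 3, nat_lit 2, nat_lit 3, nat_lit 2, nat_lit 3, nat_lit 0, nat_lit 2, nat_lit 3]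
def Wt_48_51 (j : ℕ) : List ℕ := bif Nat.blt j 49 then [nat_lit 0, nat_lit 1, nat_lit 0, nat_lit 1, nat_lit 0, nat_lit 1, nat_lit 0, nat_lit 1, nat_lit 0, nat_lit 1] else (Wt_49_51 j)
def Wt_46_51 (j : ℕ) : List ℕ := bif Nat.blt j 48 then (Wt_46_48 j) else (Wt_48_51 j)
def Wt_41_51 (j : ℕ) : List ℕ := bif Nat.blt j 46 then (Wt_41_46 j) else (Wt_46_51 j)
def Wt_51_53 (j : ℕ) : List ℕ := bif Nat.blt j 52 then [nat_lit 3, nat_lit 2, nat_lit 3, nat_lit 2, nat_lit 3, nat_lit 2, nat_lit 3, nat_lit 2, nat_lit 3, nat_lit 2, nat_lit 3, nat_lit 2, nat_lit 3, nat_lit 2, nat_lit 3, nat_lit 2] else [nat_lit 5, nat_lit 0, nat_lit 5, nat_lit 0]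
def Wt_54_56 (j : ℕ) : List ℕ := bif Nat.blt j 55 then [nat_lit 63, nat_lit 2, nat_lit 3, nat_lit 2, nat_lit 3, nat_lit 2, nat_lit 3, nat_lit 2, nat_lit 3, nat_lit 0] else [nat_lit 5, nat_lit 6, nat_lit 5, nat_lit 6, nat_lit 5, nat_lit 6, nat_lit 5, nat_lit 6]
def Wt_53_56 (j : ℕ) : List ℕ := bif Nat.blt j 54 then [nat_lit 1, nat_lit 0, nat_lit 1, nat_lit 0, nat_lit 1, nat_lit 0, nat_lit 1, nat_lit 0, nat_lit 1, nat_lit 0] else (Wt_54_56 j)
def Wt_51_56 (j : ℕ) : List ℕ := bif Nat.blt j 53 then (Wt_51_53 j) else (Wt_53_56 j)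
def Wt_56_58 (j : ℕ) : List ℕ := bif Nat.blt j 57 then [nat_lit 5, nat_lit 0, nat_lit 1, nat_lit 2, nat_lit 5, nat_lit 0, nat_lit 1, nat_lit 2, nat_lit 5, nat_lit 0, nat_lit 1, nat_lit 2, nat_lit 5, nat_lit 0, nat_lit 1, nat_lit 2, nat_lit 5, nat_lit 0, nat_lit 1, nat_lit 2] else [nat_lit 2, nat_lit 3, nat_lit 2, nat_lit 3, nat_lit 2, nat_lit 3, nat_lit 2, nat_lit 3, nat_lit 2, nat_lit 3, nat_lit 2, nat_lit 3, nat_lit 2, nat_lit 3, nat_lit 2, nat_lit 3]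
def Wt_59_61 (j : ℕ) : List ℕ := bif Nat.blt j 60 then [nat_lit 5, nat_lit 2, nat_lit 1, nat_lit 0, nat_lit 5, nat_lit 2, nat_lit 1, nat_lit 0, nat_lit 5, nat_lit 2, nat_lit 1, nat_lit 0, nat_lit 5, nat_lit 2, nat_lit 1, nat_lit 0, nat_lit 5, nat_lit 2, nat_lit 1, nat_lit 0] else [nat_lit 63, nat_lit 5, nat_lit 0, nat_lit 1, nat_lit 2, nat_lit 5, nat_lit 0, nat_lit 1, nat_lit 2, nat_lit 5, nat_lit 0, nat_lit 1, nat_lit 2, nat_lit 5, nat_lit 0, nat_lit 1, nat_lit 2, nat_lit 5, nat_lit 0, nat_lit 1, nat_lit 2]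
def Wt_58_61 (j : ℕ) : List ℕ := bif Nat.blt j 59 then [nat_lit 2, nat_lit 3, nat_lit 2, nat_lit 3, nat_lit 0, nat_lit 2, nat_lit 3, nat_lit 2, nat_lit 3] else (Wt_59_61 j)
def Wt_56_61 (j : ℕ) : List ℕ := bif Nat.blt j 58 then (Wt_56_58 j) else (Wt_58_61 j)
def Wt_51_61 (j : ℕ) : List ℕ := bif Nat.blt j 56 then (Wt_51_56 j) else (Wt_56_61 j)
def Wt_41_61 (j : ℕ) : List ℕ := bif Nat.blt j 51 then (Wt_41_51 j) else (Wt_51_61 j)
def Wt_61_63 (j : ℕ) : List ℕ := bif Nat.blt j 62 then [nat_lit 63, nat_lit 1, nat_lit 63, nat_lit 1] else [nat_lit 63, nat_lit 0, nat_lit 63, nat_lit 0]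
def Wt_64_66 (j : ℕ) : List ℕ := bif Nat.blt j 65 then [nat_lit 63, nat_lit 6, nat_lit 63, nat_lit 6] else [nat_lit 6, nat_lit 5, nat_lit 1, nat_lit 6, nat_lit 5, nat_lit 1, nat_lit 6, nat_lit 5, nat_lit 1, nat_lit 6, nat_lit 5, nat_lit 1, nat_lit 6, nat_lit 5, nat_lit 1]
def Wt_63_66 (j : ℕ) : List ℕ := bif Nat.blt j 64 then [nat_lit 63, nat_lit 5, nat_lit 63, nat_lit 5] else (Wt_64_66 j)
def Wt_61_66 (j : ℕ) : List ℕ := bif Nat.blt j 63 then (Wt_61_63 j) else (Wt_63_66 j)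
def Wt_66_68 (j : ℕ) : List ℕ := bif Nat.blt j 67 then [nat_lit 1, nat_lit 6, nat_lit 5, nat_lit 1, nat_lit 6, nat_lit 5, nat_lit 1, nat_lit 6, nat_lit 5, nat_lit 1, nat_lit 6, nat_lit 5, nat_lit 1, nat_lit 6, nat_lit 5] else [nat_lit 63, nat_lit 5, nat_lit 1, nat_lit 5, nat_lit 1, nat_lit 5, nat_lit 1]
def Wt_69_71 (j : ℕ) : List ℕ := bif Nat.blt j 70 then [nat_lit 5, nat_lit 6, nat_lit 1, nat_lit 5, nat_lit 6, nat_lit 1, nat_lit 5, nat_lit 6, nat_lit 1, nat_lit 5, nat_lit 6, nat_lit 1, nat_lit 5, nat_lit 6, nat_lit 1] else [nat_lit 63, nat_lit 1, nat_lit 0, nat_lit 5, nat_lit 2, nat_lit 1, nat_lit 0, nat_lit 5, nat_lit 2, nat_lit 1, nat_lit 0, nat_lit 5, nat_lit 2, nat_lit 1, nat_lit 0, nat_lit 5, nat_lit 2, nat_lit 1, nat_lit 0, nat_lit 5, nat_lit 2]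
def Wt_68_71 (j : ℕ) : List ℕ := bif Nat.blt j 69 then [nat_lit 63, nat_lit 3, nat_lit 63, nat_lit 3] else (Wt_69_71 j)
def Wt_66_71 (j : ℕ) : List ℕ := bif Nat.blt j 68 then (Wt_66_68 j) else (Wt_68_71 j)
def Wt_61_71 (j : ℕ) : List ℕ := bif Nat.blt j 66 then (Wt_61_66 j) else (Wt_66_71 j)
def Wt_71_73 (j : ℕ) : List ℕ := bif Nat.blt j 72 then [nat_lit 3, nat_lit 3, nat_lit 63] else [nat_lit 1, nat_lit 5, nat_lit 6, nat_lit 1, nat_lit 5, nat_lit 6, nat_lit 1, nat_lit 5, nat_lit 6, nat_lit 1, nat_lit 5, nat_lit 6, nat_lit 1, nat_lit 5, nat_lit 6]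
def Wt_74_76 (j : ℕ) : List ℕ := bif Nat.blt j 75 then [nat_lit 63, nat_lit 6, nat_lit 0, nat_lit 6, nat_lit 0] else [nat_lit 63, nat_lit 6, nat_lit 2, nat_lit 6, nat_lit 2]
def Wt_73_76 (j : ℕ) : List ℕ := bif Nat.blt j 74 then [nat_lit 63, nat_lit 0, nat_lit 1, nat_lit 0, nat_lit 1, nat_lit 0, nat_lit 1, nat_lit 0, nat_lit 1, nat_lit 0, nat_lit 1] else (Wt_74_76 j)
def Wt_71_76 (j : ℕ) : List ℕ := bif Nat.blt j 73 then (Wt_71_73 j) else (Wt_73_76 j)
def Wt_77_79 (j : ℕ) : List ℕ := bif Nat.blt j 78 then [nat_lit 0, nat_lit 6, nat_lit 5, nat_lit 6, nat_lit 5] else [nat_lit 6, nat_lit 0, nat_lit 5, nat_lit 6, nat_lit 5]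
def Wt_76_79 (j : ℕ) : List ℕ := bif Nat.blt j 77 then [nat_lit 63, nat_lit 5, nat_lit 0, nat_lit 6, nat_lit 5, nat_lit 6] else (Wt_77_79 j)
def Wt_80_82 (j : ℕ) : List ℕ := bif Nat.blt j 81 then [nat_lit 63, nat_lit 3, nat_lit 1, nat_lit 3, nat_lit 1] else [nat_lit 2, nat_lit 5, nat_lit 0, nat_lit 1, nat_lit 2, nat_lit 5, nat_lit 0, nat_lit 1, nat_lit 2, nat_lit 5, nat_lit 0, nat_lit 1, nat_lit 2, nat_lit 5, nat_lit 0, nat_lit 1, nat_lit 2, nat_lit 5, nat_lit 0, nat_lit 1]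
def Wt_79_82 (j : ℕ) : List ℕ := bif Nat.blt j 80 then [nat_lit 6, nat_lit 5, nat_lit 6, nat_lit 5, nat_lit 0] else (Wt_80_82 j)
def Wt_76_82 (j : ℕ) : List ℕ := bif Nat.blt j 79 then (Wt_76_79 j) else (Wt_79_82 j)
def Wt_71_82 (j : ℕ) : List ℕ := bif Nat.blt j 76 then (Wt_71_76 j) else (Wt_76_82 j)
def Wt_61_82 (j : ℕ) : List ℕ := bif Nat.blt j 71 then (Wt_61_71 j) else (Wt_71_82 j)
def Wt_41_82 (j : ℕ) : List ℕ := bif Nat.blt j 61 then (Wt_41_61 j) else (Wt_61_82 j)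
def Wt_0_82 (j : ℕ) : List ℕ := bif Nat.blt j 41 then (Wt_0_41 j) else (Wt_41_82 j)
def Wt_82_84 (j : ℕ) : List ℕ := bif Nat.blt j 83 then [nat_lit 2, nat_lit 1, nat_lit 0, nat_lit 5, nat_lit 2, nat_lit 1, nat_lit 0, nat_lit 5, nat_lit 2, nat_lit 1, nat_lit 0, nat_lit 5, nat_lit 2, nat_lit 1, nat_lit 0, nat_lit 5, nat_lit 2, nat_lit 1, nat_lit 0, nat_lit 5] else [nat_lit 63, nat_lit 1, nat_lit 2, nat_lit 1, nat_lit 2, nat_lit 1, nat_lit 2]
def Wt_85_87 (j : ℕ) : List ℕ := bif Nat.blt j 86 then [nat_lit 63, nat_lit 2, nat_lit 1, nat_lit 2, nat_lit 1, nat_lit 2, nat_lit 1] else [nat_lit 63, nat_lit 4, nat_lit 63, nat_lit 4]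
def Wt_84_87 (j : ℕ) : List ℕ := bif Nat.blt j 85 then [nat_lit 0, nat_lit 2, nat_lit 3, nat_lit 2, nat_lit 3, nat_lit 2, nat_lit 3, nat_lit 2, nat_lit 3] else (Wt_85_87 j)
def Wt_82_87 (j : ℕ) : List ℕ := bif Nat.blt j 84 then (Wt_82_84 j) else (Wt_84_87 j)
def Wt_87_89 (j : ℕ) : List ℕ := bif Nat.blt j 88 then [nat_lit 63, nat_lit 1, nat_lit 63, nat_lit 1, nat_lit 63] else [nat_lit 63, nat_lit 63, nat_lit 63]
def Wt_90_92 (j : ℕ) : List ℕ := bif Nat.blt j 91 then [nat_lit 63, nat_lit 63, nat_lit 2, nat_lit 63, nat_lit 2] else [nat_lit 63, nat_lit 5, nat_lit 63, nat_lit 5, nat_lit 63]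
def Wt_89_92 (j : ℕ) : List ℕ := bif Nat.blt j 90 then [nat_lit 63, nat_lit 0, nat_lit 63, nat_lit 0, nat_lit 63] else (Wt_90_92 j)
def Wt_87_92 (j : ℕ) : List ℕ := bif Nat.blt j 89 then (Wt_87_89 j) else (Wt_89_92 j)
def Wt_82_92 (j : ℕ) : List ℕ := bif Nat.blt j 87 then (Wt_82_87 j) else (Wt_87_92 j)
def Wt_92_94 (j : ℕ) : List ℕ := bif Nat.blt j 93 then [nat_lit 63, nat_lit 2, nat_lit 63, nat_lit 2, nat_lit 63] else [nat_lit 63, nat_lit 6, nat_lit 63, nat_lit 6, nat_lit 63]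
def Wt_95_97 (j : ℕ) : List ℕ := bif Nat.blt j 96 then [nat_lit 63, nat_lit 4, nat_lit 63, nat_lit 4, nat_lit 63] else [nat_lit 63, nat_lit 63, nat_lit 1, nat_lit 63, nat_lit 1]
def Wt_94_97 (j : ℕ) : List ℕ := bif Nat.blt j 95 then [nat_lit 0, nat_lit 63, nat_lit 0, nat_lit 63] else (Wt_95_97 j)
def Wt_92_97 (j : ℕ) : List ℕ := bif Nat.blt j 94 then (Wt_92_94 j) else (Wt_94_97 j)
def Wt_97_99 (j : ℕ) : List ℕ := bif Nat.blt j 98 then [nat_lit 63, nat_lit 63, nat_lit 0, nat_lit 63, nat_lit 0] else [nat_lit 63, nat_lit 3, nat_lit 63, nat_lit 3, nat_lit 63]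
def Wt_100_102 (j : ℕ) : List ℕ := bif Nat.blt j 101 then [nat_lit 63, nat_lit 63, nat_lit 6, nat_lit 63, nat_lit 6] else [nat_lit 63, nat_lit 63, nat_lit 63, nat_lit 63]
def Wt_99_102 (j : ℕ) : List ℕ := bif Nat.blt j 100 then [nat_lit 63, nat_lit 63, nat_lit 5, nat_lit 63, nat_lit 5] else (Wt_100_102 j)
def Wt_97_102 (j : ℕ) : List ℕ := bif Nat.blt j 99 then (Wt_97_99 j) else (Wt_99_102 j)
def Wt_92_102 (j : ℕ) : List ℕ := bif Nat.blt j 97 then (Wt_92_97 j) else (Wt_97_102 j)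
def Wt_82_102 (j : ℕ) : List ℕ := bif Nat.blt j 92 then (Wt_82_92 j) else (Wt_92_102 j)
def Wt_102_104 (j : ℕ) : List ℕ := bif Nat.blt j 103 then [nat_lit 63, nat_lit 63, nat_lit 3, nat_lit 63, nat_lit 3] else [nat_lit 63, nat_lit 63, nat_lit 5, nat_lit 63, nat_lit 5, nat_lit 63]
def Wt_105_107 (j : ℕ) : List ℕ := bif Nat.blt j 106 then [nat_lit 4, nat_lit 63, nat_lit 4, nat_lit 63] else [nat_lit 3, nat_lit 2, nat_lit 0, nat_lit 3, nat_lit 2, nat_lit 3, nat_lit 2, nat_lit 3, nat_lit 2]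
def Wt_104_107 (j : ℕ) : List ℕ := bif Nat.blt j 105 then [nat_lit 4, nat_lit 4, nat_lit 63] else (Wt_105_107 j)
def Wt_102_107 (j : ℕ) : List ℕ := bif Nat.blt j 104 then (Wt_102_104 j) else (Wt_104_107 j)
def Wt_107_109 (j : ℕ) : List ℕ := bif Nat.blt j 108 then [nat_lit 6, nat_lit 5, nat_lit 0, nat_lit 6, nat_lit 5] else [nat_lit 5, nat_lit 1, nat_lit 6, nat_lit 5, nat_lit 1, nat_lit 6, nat_lit 5, nat_lit 1, nat_lit 6, nat_lit 5, nat_lit 1, nat_lit 6, nat_lit 5, nat_lit 1, nat_lit 6]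
def Wt_110_112 (j : ℕ) : List ℕ := bif Nat.blt j 111 then [nat_lit 5, nat_lit 0, nat_lit 6, nat_lit 5, nat_lit 6] else [nat_lit 5, nat_lit 6, nat_lit 5, nat_lit 6, nat_lit 0]
def Wt_109_112 (j : ℕ) : List ℕ := bif Nat.blt j 110 then [nat_lit 0, nat_lit 5, nat_lit 6, nat_lit 5, nat_lit 6] else (Wt_110_112 j)
def Wt_107_112 (j : ℕ) : List ℕ := bif Nat.blt j 109 then (Wt_107_109 j) else (Wt_109_112 j)
def Wt_102_112 (j : ℕ) : List ℕ := bif Nat.blt j 107 then (Wt_102_107 j) else (Wt_107_112 j)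
def Wt_112_114 (j : ℕ) : List ℕ := bif Nat.blt j 113 then [nat_lit 2, nat_lit 0, nat_lit 3, nat_lit 2, nat_lit 3, nat_lit 2, nat_lit 3, nat_lit 2, nat_lit 3] else [nat_lit 63, nat_lit 2, nat_lit 3, nat_lit 0, nat_lit 2, nat_lit 3, nat_lit 2, nat_lit 3, nat_lit 2, nat_lit 3]
def Wt_115_117 (j : ℕ) : List ℕ := bif Nat.blt j 116 then [nat_lit 63, nat_lit 4, nat_lit 3, nat_lit 4, nat_lit 3, nat_lit 4, nat_lit 3] else [nat_lit 4, nat_lit 1, nat_lit 2, nat_lit 3, nat_lit 2, nat_lit 3, nat_lit 1, nat_lit 2, nat_lit 3, nat_lit 2, nat_lit 3, nat_lit 1, nat_lit 2, nat_lit 3, nat_lit 2, nat_lit 3, nat_lit 1, nat_lit 2, nat_lit 3, nat_lit 2, nat_lit 3, nat_lit 1, nat_lit 2, nat_lit 3, nat_lit 2, nat_lit 3, nat_lit 4, nat_lit 1, nat_lit 2, nat_lit 3, nat_lit 2, nat_lit 3, nat_lit 1, nat_lit 2, nat_lit 3, nat_lit 2, nat_lit 3, nat_lit 1, nat_lit 2, nat_lit 3, nat_lit 2, nat_lit 3, nat_lit 1, nat_lit 2, nat_lit 3, nat_lit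 2, nat_lit 3, nat_lit 1, nat_lit 2, nat_lit 3, nat_lit 2, nat_lit 3, nat_lit 4, nat_lit 1, nat_lit 2, nat_lit 3, nat_lit 2, nat_lit 3, nat_lit 1, nat_lit 2, nat_lit 3, nat_lit 2, nat_lit 3, nat_lit 1, nat_lit 2, nat_lit 3, nat_lit 2, nat_lit 3, nat_lit 1, nat_lit 2, nat_lit 3, nat_lit 2, nat_lit 3, nat_lit 1, nat_lit 2, nat_lit 3, nat_lit 2, nat_lit 3]
def Wt_114_117 (j : ℕ) : List ℕ := bif Nat.blt j 115 then [nat_lit 63, nat_lit 2, nat_lit 1, nat_lit 3, nat_lit 2, nat_lit 3, nat_lit 2, nat_lit 1, nat_lit 3, nat_lit 2, nat_lit 3, nat_lit 2, nat_lit 1, nat_lit 4, nat_lit 3, nat_lit 2, nat_lit 3, nat_lit 2, nat_lit 1, nat_lit 3, nat_lit 2, nat_lit 3, nat_lit 2, nat_lit 1, nat_lit 3, nat_lit 2, nat_lit 3, nat_lit 2, nat_lit 1, nat_lit 3, nat_lit 2, nat_lit 3, nat_lit 2, nat_lit 1, nat_lit 3, nat_lit 2, nat_lit 3, nat_lit 2, nat_lit 1, nat_lit 4, nat_lit 3, nat_lit 2, nat_lit 3, nat_lit 2, nat_lit 1, nat_lit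 3, nat_lit 2, nat_lit 3, nat_lit 2, nat_lit 1, nat_lit 3, nat_lit 2, nat_lit 3, nat_lit 2, nat_lit 1, nat_lit 3, nat_lit 2, nat_lit 3, nat_lit 2, nat_lit 1, nat_lit 3, nat_lit 2, nat_lit 3, nat_lit 2, nat_lit 1, nat_lit 4, nat_lit 3, nat_lit 2, nat_lit 3, nat_lit 2, nat_lit 1, nat_lit 3, nat_lit 2, nat_lit 3, nat_lit 2, nat_lit 1, nat_lit 3, nat_lit 2, nat_lit 3] else (Wt_115_117 j)
def Wt_112_117 (j : ℕ) : List ℕ := bif Nat.blt j 114 then (Wt_112_114 j) else (Wt_114_117 j)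
def Wt_118_120 (j : ℕ) : List ℕ := bif Nat.blt j 119 then [nat_lit 63, nat_lit 5, nat_lit 6, nat_lit 5, nat_lit 6, nat_lit 0] else [nat_lit 5, nat_lit 6, nat_lit 5, nat_lit 0, nat_lit 6]
def Wt_117_120 (j : ℕ) : List ℕ := bif Nat.blt j 118 then [nat_lit 63, nat_lit 6, nat_lit 1, nat_lit 6, nat_lit 1, nat_lit 6, nat_lit 1] else (Wt_118_120 j)
def Wt_121_123 (j : ℕ) : List ℕ := bif Nat.blt j 122 then [nat_lit 63, nat_lit 1, nat_lit 5, nat_lit 1, nat_lit 5, nat_lit 1, nat_lit 5] else [nat_lit 0, nat_lit 1, nat_lit 2, nat_lit 5, nat_lit 0, nat_lit 1, nat_lit 2, nat_lit 5, nat_lit 0, nat_lit 1, nat_lit 2, nat_lit 5, nat_lit 0, nat_lit 1, nat_lit 2, nat_lit 5, nat_lit 0, nat_lit 1, nat_lit 2, nat_lit 5]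
def Wt_120_123 (j : ℕ) : List ℕ := bif Nat.blt j 121 then [nat_lit 1, nat_lit 2, nat_lit 5, nat_lit 0, nat_lit 1, nat_lit 2, nat_lit 5, nat_lit 0, nat_lit 1, nat_lit 2, nat_lit 5, nat_lit 0, nat_lit 1, nat_lit 2, nat_lit 5, nat_lit 0, nat_lit 1, nat_lit 2, nat_lit 5, nat_lit 0] else (Wt_121_123 j)
def Wt_117_123 (j : ℕ) : List ℕ := bif Nat.blt j 120 then (Wt_117_120 j) else (Wt_120_123 j)
def Wt_112_123 (j : ℕ) : List ℕ := bif Nat.blt j 117 then (Wt_112_117 j) else (Wt_117_123 j)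
def Wt_102_123 (j : ℕ) : List ℕ := bif Nat.blt j 112 then (Wt_102_112 j) else (Wt_112_123 j)
def Wt_82_123 (j : ℕ) : List ℕ := bif Nat.blt j 102 then (Wt_82_102 j) else (Wt_102_123 j)
def Wt_123_125 (j : ℕ) : List ℕ := bif Nat.blt j 124 then [nat_lit 63, nat_lit 1, nat_lit 6, nat_lit 1, nat_lit 6, nat_lit 1, nat_lit 6] else [nat_lit 63, nat_lit 2, nat_lit 4, nat_lit 2, nat_lit 4]
def Wt_126_128 (j : ℕ) : List ℕ := bif Nat.blt j 127 then [nat_lit 63, nat_lit 1, nat_lit 0, nat_lit 1, nat_lit 0, nat_lit 1, nat_lit 0, nat_lit 1, nat_lit 0, nat_lit 1, nat_lit 0] else [nat_lit 63, nat_lit 5, nat_lit 2, nat_lit 1, nat_lit 0, nat_lit 5, nat_lit 2, nat_lit 1, nat_lit 0, nat_lit 5, nat_lit 2, nat_lit 1, nat_lit 0, nat_lit 5, nat_lit 2, nat_lit 1, nat_lit 0, nat_lit 5, nat_lit 2, nat_lit 1, nat_lit 0]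
def Wt_125_128 (j : ℕ) : List ℕ := bif Nat.blt j 126 then [nat_lit 63, nat_lit 2, nat_lit 0, nat_lit 2, nat_lit 0] else (Wt_126_128 j)
def Wt_123_128 (j : ℕ) : List ℕ := bif Nat.blt j 125 then (Wt_123_125 j) else (Wt_125_128 j)
def Wt_128_130 (j : ℕ) : List ℕ := bif Nat.blt j 129 then [nat_lit 63, nat_lit 0, nat_lit 4, nat_lit 0, nat_lit 4] else [nat_lit 63, nat_lit 4, nat_lit 1, nat_lit 4, nat_lit 1]
def Wt_131_133 (j : ℕ) : List ℕ := bif Nat.blt j 132 then [nat_lit 1, nat_lit 0, nat_lit 5, nat_lit 2, nat_lit 1, nat_lit 0, nat_lit 5, nat_lit 2, nat_lit 1, nat_lit 0, nat_lit 5, nat_lit 2, nat_lit 1, nat_lit 0, nat_lit 5, nat_lit 2, nat_lit 1, nat_lit 0, nat_lit 5, nat_lit 2] else [nat_lit 63, nat_lit 5, nat_lit 2, nat_lit 5, nat_lit 2]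
def Wt_130_133 (j : ℕ) : List ℕ := bif Nat.blt j 131 then [nat_lit 63, nat_lit 1, nat_lit 4, nat_lit 1, nat_lit 4] else (Wt_131_133 j)
def Wt_128_133 (j : ℕ) : List ℕ := bif Nat.blt j 130 then (Wt_128_130 j) else (Wt_130_133 j)
def Wt_123_133 (j : ℕ) : List ℕ := bif Nat.blt j 128 then (Wt_123_128 j) else (Wt_128_133 j)
def Wt_133_135 (j : ℕ) : List ℕ := bif Nat.blt j 134 then [nat_lit 63, nat_lit 0, nat_lit 1, nat_lit 2, nat_lit 5, nat_lit 0, nat_lit 1, nat_lit 2, nat_lit 5, nat_lit 0, nat_lit 1, nat_lit 2, nat_lit 5, nat_lit 0, nat_lit 1, nat_lit 2, nat_lit 5, nat_lit 0, nat_lit 1, nat_lit 2, nat_lit 5] else [nat_lit 63, nat_lit 1, nat_lit 3, nat_lit 1, nat_lit 3]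
def Wt_136_138 (j : ℕ) : List ℕ := bif Nat.blt j 137 then [nat_lit 3, nat_lit 2, nat_lit 3, nat_lit 2, nat_lit 3, nat_lit 2, nat_lit 3, nat_lit 2, nat_lit 0] else [nat_lit 63, nat_lit 5, nat_lit 6, nat_lit 5, nat_lit 6, nat_lit 5, nat_lit 6, nat_lit 5, nat_lit 6]
def Wt_135_138 (j : ℕ) : List ℕ := bif Nat.blt j 136 then [nat_lit 63, nat_lit 6, nat_lit 4, nat_lit 6, nat_lit 4] else (Wt_136_138 j)
def Wt_133_138 (j : ℕ) : List ℕ := bif Nat.blt j 135 then (Wt_133_135 j) else (Wt_135_138 j)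
def Wt_139_141 (j : ℕ) : List ℕ := bif Nat.blt j 140 then [nat_lit 63, nat_lit 5, nat_lit 6, nat_lit 5, nat_lit 0, nat_lit 6] else [nat_lit 63, nat_lit 0, nat_lit 5, nat_lit 6, nat_lit 5, nat_lit 6]
def Wt_138_141 (j : ℕ) : List ℕ := bif Nat.blt j 139 then [nat_lit 63, nat_lit 1, nat_lit 2, nat_lit 5, nat_lit 0, nat_lit 1, nat_lit 2, nat_lit 5, nat_lit 0, nat_lit 1, nat_lit 2, nat_lit 5, nat_lit 0, nat_lit 1, nat_lit 2, nat_lit 5, nat_lit 0, nat_lit 1, nat_lit 2, nat_lit 5, nat_lit 0] else (Wt_139_141 j)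
def Wt_142_144 (j : ℕ) : List ℕ := bif Nat.blt j 143 then [nat_lit 3, nat_lit 2, nat_lit 3, nat_lit 0, nat_lit 2, nat_lit 3, nat_lit 2, nat_lit 3, nat_lit 2] else [nat_lit 0, nat_lit 3, nat_lit 2, nat_lit 3, nat_lit 2, nat_lit 3, nat_lit 2, nat_lit 3, nat_lit 2]
def Wt_141_144 (j : ℕ) : List ℕ := bif Nat.blt j 142 then [nat_lit 63, nat_lit 2, nat_lit 5, nat_lit 0, nat_lit 1, nat_lit 2, nat_lit 5, nat_lit 0, nat_lit 1, nat_lit 2, nat_lit 5, nat_lit 0, nat_lit 1, nat_lit 2, nat_lit 5, nat_lit 0, nat_lit 1, nat_lit 2, nat_lit 5, nat_lit 0, nat_lit 1] else (Wt_142_144 j)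
def Wt_138_144 (j : ℕ) : List ℕ := bif Nat.blt j 141 then (Wt_138_141 j) else (Wt_141_144 j)
def Wt_133_144 (j : ℕ) : List ℕ := bif Nat.blt j 138 then (Wt_133_138 j) else (Wt_138_144 j)
def Wt_123_144 (j : ℕ) : List ℕ := bif Nat.blt j 133 then (Wt_123_133 j) else (Wt_133_144 j)
def Wt_144_146 (j : ℕ) : List ℕ := bif Nat.blt j 145 then [nat_lit 63, nat_lit 0, nat_lit 5, nat_lit 2, nat_lit 1, nat_lit 0, nat_lit 5, nat_lit 2, nat_lit 1, nat_lit 0, nat_lit 5, nat_lit 2, nat_lit 1, nat_lit 0, nat_lit 5, nat_lit 2, nat_lit 1, nat_lit 0, nat_lit 5, nat_lit 2, nat_lit 1] else [nat_lit 5, nat_lit 63, nat_lit 5, nat_lit 63]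
def Wt_147_149 (j : ℕ) : List ℕ := bif Nat.blt j 148 then [nat_lit 63, nat_lit 63, nat_lit 6, nat_lit 63, nat_lit 6, nat_lit 63] else [nat_lit 63, nat_lit 63, nat_lit 3, nat_lit 63, nat_lit 3, nat_lit 63]
def Wt_146_149 (j : ℕ) : List ℕ := bif Nat.blt j 147 then [nat_lit 63, nat_lit 63, nat_lit 4, nat_lit 63, nat_lit 4] else (Wt_147_149 j)
def Wt_144_149 (j : ℕ) : List ℕ := bif Nat.blt j 146 then (Wt_144_146 j) else (Wt_146_149 j)
def Wt_149_151 (j : ℕ) : List ℕ := bif Nat.blt j 150 then [nat_lit 63, nat_lit 63, nat_lit 1, nat_lit 63, nat_lit 1, nat_lit 63] else [nat_lit 63, nat_lit 63, nat_lit 0, nat_lit 63, nat_lit 0, nat_lit 63]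
def Wt_152_154 (j : ℕ) : List ℕ := bif Nat.blt j 153 then [nat_lit 1, nat_lit 63, nat_lit 1, nat_lit 63] else [nat_lit 63, nat_lit 3, nat_lit 2, nat_lit 1, nat_lit 3, nat_lit 2, nat_lit 3, nat_lit 2, nat_lit 1, nat_lit 3, nat_lit 2, nat_lit 3, nat_lit 2, nat_lit 1, nat_lit 3, nat_lit 2, nat_lit 3, nat_lit 2, nat_lit 1, nat_lit 4, nat_lit 3, nat_lit 2, nat_lit 3, nat_lit 2, nat_lit 1, nat_lit 3, nat_lit 2, nat_lit 3, nat_lit 2, nat_lit 1, nat_lit 3, nat_lit 2, nat_lit 3, nat_lit 2, nat_lit 1, nat_lit 3, nat_lit 2, nat_lit 3, nat_lit 2, nat_lit 1, nat_lit 3, nat_lit 2, nat_lit 3, nat_lit 2, nat_lit 1, nat_lit 4, nat_lit 3, nat_lit 2, nat_lit 3, nat_lit 2, nat_lit 1, nat_lit 3, nat_lit 2, nat_lit 3, nat_lit 2, nat_lit 1, nat_lit 3, nat_lit 2, nat_lit 3, nat_lit 2, nat_lit 1, nat_lit 3, nat_lit 2, nat_lit 3, nat_lit 2, nat_lit 1, nat_lit 3, nat_lit 2, nat_lit 3, nat_lit 2, nat_lit 1, nat_lit 4, nat_lit 3,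 nat_lit 2, nat_lit 3, nat_lit 2, nat_lit 1, nat_lit 3, nat_lit 2]
def Wt_151_154 (j : ℕ) : List ℕ := bif Nat.blt j 152 then [nat_lit 3, nat_lit 63, nat_lit 3, nat_lit 63] else (Wt_152_154 j)
def Wt_149_154 (j : ℕ) : List ℕ := bif Nat.blt j 151 then (Wt_149_151 j) else (Wt_151_154 j)
def Wt_144_154 (j : ℕ) : List ℕ := bif Nat.blt j 149 then (Wt_144_149 j) else (Wt_149_154 j)
def Wt_154_156 (j : ℕ) : List ℕ := bif Nat.blt j 155 then [nat_lit 63, nat_lit 3, nat_lit 2, nat_lit 3, nat_lit 1, nat_lit 2, nat_lit 3, nat_lit 2, nat_lit 3, nat_lit 1, nat_lit 2, nat_lit 3, nat_lit 2, nat_lit 3, nat_lit 4, nat_lit 1, nat_lit 2, nat_lit 3, nat_lit 2, nat_lit 3, nat_lit 1, nat_lit 2, nat_lit 3, nat_lit 2, nat_lit 3, nat_lit 1, nat_lit 2, nat_lit 3, nat_lit 2, nat_lit 3, nat_lit 1, nat_lit 2, nat_lit 3, nat_lit 2, nat_lit 3, nat_lit 1, nat_lit 2, nat_lit 3, nat_lit 2, nat_lit 3, nat_lit 4, nat_lit 1, nat_lit 2, nat_lit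 3, nat_lit 2, nat_lit 3, nat_lit 1, nat_lit 2, nat_lit 3, nat_lit 2, nat_lit 3, nat_lit 1, nat_lit 2, nat_lit 3, nat_lit 2, nat_lit 3, nat_lit 1, nat_lit 2, nat_lit 3, nat_lit 2, nat_lit 3, nat_lit 1, nat_lit 2, nat_lit 3, nat_lit 2, nat_lit 3, nat_lit 4, nat_lit 1, nat_lit 2, nat_lit 3, nat_lit 2, nat_lit 3, nat_lit 1, nat_lit 2, nat_lit 3, nat_lit 2, nat_lit 3, nat_lit 1, nat_lit 2] else [nat_lit 2, nat_lit 3, nat_lit 2, nat_lit 3, nat_lit 1, nat_lit 2, nat_lit 3, nat_lit 2, nat_lit 3, nat_lit 4, nat_lit 1, nat_lit 2, nat_lit 3, nat_lit 2, nat_lit 3, nat_lit 1, nat_lit 2, nat_lit 3, nat_lit 2, nat_lit 3, nat_lit 1, nat_lit 2, nat_lit 3, nat_lit 2, nat_lit 3, nat_lit 1, nat_lit 2, nat_lit 3, nat_lit 2, nat_lit 3, nat_lit 1, nat_lit 2, nat_lit 3, nat_lit 2, nat_lit 3, nat_lit 4, nat_lit 1, nat_lit 2, nat_lit 3, nat_lit 2, nat_lit 3, nat_lit 1, nat_lit 2, nat_lit 3, nat_lit 2, nat_lit 3, nat_lit 1, nat_lit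 2, nat_lit 3, nat_lit 2, nat_lit 3, nat_lit 1, nat_lit 2, nat_lit 3, nat_lit 2, nat_lit 3, nat_lit 1, nat_lit 2, nat_lit 3, nat_lit 2, nat_lit 3, nat_lit 4, nat_lit 1, nat_lit 2, nat_lit 3, nat_lit 2, nat_lit 3, nat_lit 1, nat_lit 2, nat_lit 3, nat_lit 2, nat_lit 3, nat_lit 1, nat_lit 2, nat_lit 3, nat_lit 2, nat_lit 3, nat_lit 1]
def Wt_157_159 (j : ℕ) : List ℕ := bif Nat.blt j 158 then [nat_lit 3, nat_lit 1, nat_lit 2, nat_lit 3, nat_lit 2, nat_lit 3, nat_lit 1, nat_lit 2, nat_lit 3, nat_lit 2, nat_lit 3, nat_lit 1, nat_lit 2, nat_lit 3, nat_lit 2, nat_lit 3, nat_lit 4, nat_lit 1, nat_lit 2, nat_lit 3, nat_lit 2, nat_lit 3, nat_lit 1, nat_lit 2, nat_lit 3, nat_lit 2, nat_lit 3, nat_lit 1, nat_lit 2, nat_lit 3, nat_lit 2, nat_lit 3, nat_lit 1, nat_lit 2, nat_lit 3, nat_lit 2, nat_lit 3, nat_lit 1, nat_lit 2, nat_lit 3, nat_lit 2, nat_lit 3, nat_lit 4, nat_lit 1, nat_lit 2, nat_lit 3, nat_lit 2, nat_lit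 3, nat_lit 1, nat_lit 2, nat_lit 3, nat_lit 2, nat_lit 3, nat_lit 1, nat_lit 2, nat_lit 3, nat_lit 2, nat_lit 3, nat_lit 1, nat_lit 2, nat_lit 3, nat_lit 2, nat_lit 3, nat_lit 1, nat_lit 2, nat_lit 3, nat_lit 2, nat_lit 3, nat_lit 4, nat_lit 1, nat_lit 2, nat_lit 3, nat_lit 2, nat_lit 3, nat_lit 1, nat_lit 2, nat_lit 3, nat_lit 2] else [nat_lit 63, nat_lit 1, nat_lit 2, nat_lit 3, nat_lit 2, nat_lit 3, nat_lit 4, nat_lit 1, nat_lit 2, nat_lit 3, nat_lit 2, nat_lit 3, nat_lit 1, nat_lit 2, nat_lit 3, nat_lit 2, nat_lit 3, nat_lit 1, nat_lit 2, nat_lit 3, nat_lit 2, nat_lit 3, nat_lit 1, nat_lit 2, nat_lit 3, nat_lit 2, nat_lit 3, nat_lit 1, nat_lit 2, nat_lit 3, nat_lit 2, nat_lit 3, nat_lit 4, nat_lit 1, nat_lit 2, nat_lit 3, nat_lit 2, nat_lit 3, nat_lit 1, nat_lit 2, nat_lit 3, nat_lit 2, nat_lit 3, nat_lit 1, nat_lit 2, nat_lit 3, nat_lit 2, nat_lit 3, nat_lit 1, nat_lit 2, nat_lit 3, nat_lit 2, nat_lit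 3, nat_lit 1, nat_lit 2, nat_lit 3, nat_lit 2, nat_lit 3, nat_lit 4, nat_lit 1, nat_lit 2, nat_lit 3, nat_lit 2, nat_lit 3, nat_lit 1, nat_lit 2, nat_lit 3, nat_lit 2, nat_lit 3, nat_lit 1, nat_lit 2, nat_lit 3, nat_lit 2, nat_lit 3, nat_lit 1, nat_lit 2, nat_lit 3, nat_lit 2, nat_lit 3]
def Wt_156_159 (j : ℕ) : List ℕ := bif Nat.blt j 157 then [nat_lit 2, nat_lit 3, nat_lit 2, nat_lit 3, nat_lit 1, nat_lit 2, nat_lit 3, nat_lit 2, nat_lit 3, nat_lit 1, nat_lit 2, nat_lit 3, nat_lit 2, nat_lit 3, nat_lit 1, nat_lit 2, nat_lit 3, nat_lit 2, nat_lit 3, nat_lit 1, nat_lit 2, nat_lit 3, nat_lit 2, nat_lit 3, nat_lit 4, nat_lit 1, nat_lit 2, nat_lit 3, nat_lit 2, nat_lit 3, nat_lit 1, nat_lit 2, nat_lit 3, nat_lit 2, nat_lit 3, nat_lit 1, nat_lit 2, nat_lit 3, nat_lit 2, nat_lit 3, nat_lit 1, nat_lit 2, nat_lit 3, nat_lit 2, nat_lit 3, nat_lit 1, nat_lit 2, nat_lit 3, nat_lit 2, nat_lit 3, nat_lit 4, nat_lit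 1, nat_lit 2, nat_lit 3, nat_lit 2, nat_lit 3, nat_lit 1, nat_lit 2, nat_lit 3, nat_lit 2, nat_lit 3, nat_lit 1, nat_lit 2, nat_lit 3, nat_lit 2, nat_lit 3, nat_lit 1, nat_lit 2, nat_lit 3, nat_lit 2, nat_lit 3, nat_lit 1, nat_lit 2, nat_lit 3, nat_lit 2, nat_lit 3, nat_lit 4, nat_lit 1] else (Wt_157_159 j)
def Wt_154_159 (j : ℕ) : List ℕ := bif Nat.blt j 156 then (Wt_154_156 j) else (Wt_156_159 j)
def Wt_160_162 (j : ℕ) : List ℕ := bif Nat.blt j 161 then [nat_lit 63, nat_lit 3, nat_lit 2, nat_lit 1, nat_lit 3, nat_lit 2, nat_lit 3, nat_lit 2, nat_lit 1, nat_lit 4, nat_lit 3, nat_lit 2, nat_lit 3, nat_lit 2, nat_lit 1, nat_lit 3, nat_lit 2, nat_lit 3, nat_lit 2, nat_lit 1, nat_lit 3, nat_lit 2, nat_lit 3, nat_lit 2, nat_lit 1, nat_lit 3, nat_lit 2, nat_lit 3, nat_lit 2, nat_lit 1, nat_lit 3, nat_lit 2, nat_lit 3, nat_lit 2, nat_lit 1, nat_lit 4, nat_lit 3, nat_lit 2, nat_lit 3, nat_lit 2, nat_lit 1, nat_lit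 3, nat_lit 2, nat_lit 3, nat_lit 2, nat_lit 1, nat_lit 3, nat_lit 2, nat_lit 3, nat_lit 2, nat_lit 1, nat_lit 3, nat_lit 2, nat_lit 3, nat_lit 2, nat_lit 1, nat_lit 3, nat_lit 2, nat_lit 3, nat_lit 2, nat_lit 1, nat_lit 4, nat_lit 3, nat_lit 2, nat_lit 3, nat_lit 2, nat_lit 1, nat_lit 3, nat_lit 2, nat_lit 3, nat_lit 2, nat_lit 1, nat_lit 3, nat_lit 2, nat_lit 3, nat_lit 2, nat_lit 1, nat_lit 3, nat_lit 2] else [nat_lit 63, nat_lit 4, nat_lit 1, nat_lit 2, nat_lit 3, nat_lit 2, nat_lit 3, nat_lit 1, nat_lit 2, nat_lit 3, nat_lit 2, nat_lit 3, nat_lit 1, nat_lit 2, nat_lit 3, nat_lit 2, nat_lit 3, nat_lit 1, nat_lit 2, nat_lit 3, nat_lit 2, nat_lit 3, nat_lit 1, nat_lit 2, nat_lit 3, nat_lit 2, nat_lit 3, nat_lit 4, nat_lit 1, nat_lit 2, nat_lit 3, nat_lit 2, nat_lit 3, nat_lit 1, nat_lit 2, nat_lit 3, nat_lit 2, nat_lit 3, nat_lit 1, nat_lit 2, nat_lit 3, nat_lit 2, nat_lit 3, nat_lit 1, nat_lit 2, nat_lit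 3, nat_lit 2, nat_lit 3, nat_lit 1, nat_lit 2, nat_lit 3, nat_lit 2, nat_lit 3, nat_lit 4, nat_lit 1, nat_lit 2, nat_lit 3, nat_lit 2, nat_lit 3, nat_lit 1, nat_lit 2, nat_lit 3, nat_lit 2, nat_lit 3, nat_lit 1, nat_lit 2, nat_lit 3, nat_lit 2, nat_lit 3, nat_lit 1, nat_lit 2, nat_lit 3, nat_lit 2, nat_lit 3, nat_lit 1, nat_lit 2, nat_lit 3, nat_lit 2, nat_lit 3]
def Wt_159_162 (j : ℕ) : List ℕ := bif Nat.blt j 160 then [nat_lit 3, nat_lit 2, nat_lit 1, nat_lit 3, nat_lit 2, nat_lit 3, nat_lit 2, nat_lit 1, nat_lit 3, nat_lit 2, nat_lit 3, nat_lit 2, nat_lit 1, nat_lit 3, nat_lit 2, nat_lit 3, nat_lit 2, nat_lit 1, nat_lit 4, nat_lit 3, nat_lit 2, nat_lit 3, nat_lit 2, nat_lit 1, nat_lit 3, nat_lit 2, nat_lit 3, nat_lit 2, nat_lit 1, nat_lit 3, nat_lit 2, nat_lit 3, nat_lit 2, nat_lit 1, nat_lit 3, nat_lit 2, nat_lit 3, nat_lit 2, nat_lit 1, nat_lit 3, nat_lit 2, nat_lit 3, nat_lit 2, nat_lit 1, nat_lit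 4, nat_lit 3, nat_lit 2, nat_lit 3, nat_lit 2, nat_lit 1, nat_lit 3, nat_lit 2, nat_lit 3, nat_lit 2, nat_lit 1, nat_lit 3, nat_lit 2, nat_lit 3, nat_lit 2, nat_lit 1, nat_lit 3, nat_lit 2, nat_lit 3, nat_lit 2, nat_lit 1, nat_lit 3, nat_lit 2, nat_lit 3, nat_lit 2, nat_lit 1, nat_lit 4, nat_lit 3, nat_lit 2, nat_lit 3, nat_lit 2, nat_lit 1, nat_lit 3, nat_lit 2] else (Wt_160_162 j)
def Wt_163_165 (j : ℕ) : List ℕ := bif Nat.blt j 164 then [nat_lit 63, nat_lit 3, nat_lit 5, nat_lit 3, nat_lit 5] else [nat_lit 3, nat_lit 2, nat_lit 3, nat_lit 2, nat_lit 1, nat_lit 3, nat_lit 2, nat_lit 3, nat_lit 2, nat_lit 1, nat_lit 3, nat_lit 2, nat_lit 3, nat_lit 2, nat_lit 1, nat_lit 3, nat_lit 2, nat_lit 3, nat_lit 2, nat_lit 1, nat_lit 3, nat_lit 2, nat_lit 3, nat_lit 2, nat_lit 1, nat_lit 4, nat_lit 3, nat_lit 2, nat_lit 3, nat_lit 2, nat_lit 1, nat_lit 3, nat_lit 2, nat_lit 3, nat_lit 2, nat_lit 1, nat_lit 3, nat_lit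 2, nat_lit 3, nat_lit 2, nat_lit 1, nat_lit 3, nat_lit 2, nat_lit 3, nat_lit 2, nat_lit 1, nat_lit 3, nat_lit 2, nat_lit 3, nat_lit 2, nat_lit 1, nat_lit 4, nat_lit 3, nat_lit 2, nat_lit 3, nat_lit 2, nat_lit 1, nat_lit 3, nat_lit 2, nat_lit 3, nat_lit 2, nat_lit 1, nat_lit 3, nat_lit 2, nat_lit 3, nat_lit 2, nat_lit 1, nat_lit 3, nat_lit 2, nat_lit 3, nat_lit 2, nat_lit 1, nat_lit 3, nat_lit 2, nat_lit 3, nat_lit 2, nat_lit 1, nat_lit 4]
def Wt_162_165 (j : ℕ) : List ℕ := bif Nat.blt j 163 then [nat_lit 63, nat_lit 2, nat_lit 6, nat_lit 2, nat_lit 6] else (Wt_163_165 j)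
def Wt_159_165 (j : ℕ) : List ℕ := bif Nat.blt j 162 then (Wt_159_162 j) else (Wt_162_165 j)
def Wt_154_165 (j : ℕ) : List ℕ := bif Nat.blt j 159 then (Wt_154_159 j) else (Wt_159_165 j)
def Wt_144_165 (j : ℕ) : List ℕ := bif Nat.blt j 154 then (Wt_144_154 j) else (Wt_154_165 j)
def Wt_123_165 (j : ℕ) : List ℕ := bif Nat.blt j 144 then (Wt_123_144 j) else (Wt_144_165 j)
def Wt_82_165 (j : ℕ) : List ℕ := bif Nat.blt j 123 then (Wt_82_123 j) else (Wt_123_165 j)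
def Wt_0_165 (j : ℕ) : List ℕ := bif Nat.blt j 82 then (Wt_0_82 j) else (Wt_82_165 j)
def Wt (j : ℕ) : List ℕ := (Wt_0_165 j)
def W (j : ℕ) : List ℕ := bif Nat.blt j 165 then Wt j else []
theorem W_ge (j : ℕ) (h : 165 ≤ j) : W j = [] := by
  unfold W
  rw [blt_false_of_le h]
  rfl
def Hl : List ℕ := [nat_lit 0, nat_lit 1, nat_lit 2, nat_lit 3, nat_lit 4, nat_lit 5]
def isH (y : ℕ) : Bool := List.elem y Hl
def Rb : List (List ℕ) := [[nat_lit 0, nat_lit 0],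
  [nat_lit 1, nat_lit 0, nat_lit 1, nat_lit 0, nat_lit 1, nat_lit 0, nat_lit 1, nat_lit 0, nat_lit 1, nat_lit 0],
  [nat_lit 2, nat_lit 0, nat_lit 2, nat_lit 0],
  [nat_lit 3, nat_lit 0, nat_lit 3, nat_lit 0],
  [nat_lit 4, nat_lit 0, nat_lit 4, nat_lit 0],
  [nat_lit 5, nat_lit 0, nat_lit 5, nat_lit 0],
  [nat_lit 6, nat_lit 0, nat_lit 6, nat_lit 0],
  [nat_lit 1, nat_lit 1],
  [nat_lit 2, nat_lit 1, nat_lit 2, nat_lit 1, nat_lit 2, nat_lit 1],
  [nat_lit 3, nat_lit 1, nat_lit 3, nat_lit 1],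
  [nat_lit 4, nat_lit 1, nat_lit 4, nat_lit 1],
  [nat_lit 5, nat_lit 1, nat_lit 5, nat_lit 1, nat_lit 5, nat_lit 1],
  [nat_lit 6, nat_lit 1, nat_lit 6, nat_lit 1, nat_lit 6, nat_lit 1],
  [nat_lit 2, nat_lit 2],
  [nat_lit 3, nat_lit 2, nat_lit 3, nat_lit 2, nat_lit 3, nat_lit 2, nat_lit 3, nat_lit 2, nat_lit 3, nat_lit 2, nat_lit 3, nat_lit 2, nat_lit 3, nat_lit 2, nat_lit 3, nat_lit 2],
  [nat_lit 4, nat_lit 2, nat_lit 4, nat_lit 2],
  [nat_lit 5, nat_lit 2, nat_lit 5, nat_lit 2],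
  [nat_lit 6, nat_lit 2, nat_lit 6, nat_lit 2],
  [nat_lit 3, nat_lit 3],
  [nat_lit 4, nat_lit 3, nat_lit 4, nat_lit 3, nat_lit 4, nat_lit 3],
  [nat_lit 5, nat_lit 3, nat_lit 5, nat_lit 3],
  [nat_lit 6, nat_lit 3, nat_lit 6, nat_lit 3],
  [nat_lit 4, nat_lit 4],
  [nat_lit 5, nat_lit 4, nat_lit 5, nat_lit 4],
  [nat_lit 6, nat_lit 4, nat_lit 6, nat_lit 4],
  [nat_lit 5, nat_lit 5],
  [nat_lit 6, nat_lit 5, nat_lit 6, nat_lit 5, nat_lit 6, nat_lit 5, nat_lit 6, nat_lit 5],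
  [nat_lit 6, nat_lit 6],
  [nat_lit 2, nat_lit 3, nat_lit 2, nat_lit 3, nat_lit 2, nat_lit 3, nat_lit 2, nat_lit 3, nat_lit 0],
  [nat_lit 5, nat_lit 6, nat_lit 5, nat_lit 6, nat_lit 0],
  [nat_lit 5, nat_lit 2, nat_lit 1, nat_lit 0, nat_lit 5, nat_lit 2, nat_lit 1, nat_lit 0, nat_lit 5, nat_lit 2, nat_lit 1, nat_lit 0, nat_lit 5, nat_lit 2, nat_lit 1, nat_lit 0, nat_lit 5, nat_lit 2, nat_lit 1, nat_lit 0],
  [nat_lit 6, nat_lit 5, nat_lit 1, nat_lit 6, nat_lit 5, nat_lit 1, nat_lit 6, nat_lit 5, nat_lit 1, nat_lit 6, nat_lit 5, nat_lit 1, nat_lit 6, nat_lit 5, nat_lit 1],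
  [nat_lit 4, nat_lit 3, nat_lit 2, nat_lit 3, nat_lit 2, nat_lit 1, nat_lit 3, nat_lit 2, nat_lit 3, nat_lit 2, nat_lit 1, nat_lit 3, nat_lit 2, nat_lit 3, nat_lit 2, nat_lit 1, nat_lit 3, nat_lit 2, nat_lit 3, nat_lit 2, nat_lit 1, nat_lit 3, nat_lit 2, nat_lit 3, nat_lit 2, nat_lit 1, nat_lit 4, nat_lit 3, nat_lit 2, nat_lit 3, nat_lit 2, nat_lit 1, nat_lit 3, nat_lit 2, nat_lit 3, nat_lit 2, nat_lit 1, nat_lit 3, nat_lit 2, nat_lit 3, nat_lit 2, nat_lit 1, nat_lit 3, nat_lit 2, nat_lit 3, nat_lit 2, nat_lit 1, nat_lit 3, nat_lit 2, nat_lit 3, nat_lit 2, nat_lit 1, nat_lit 4, nat_lit 3, nat_lit 2, nat_lit 3, nat_lit 2, nat_lit 1, nat_lit 3, nat_lit 2, nat_lit 3, nat_lit 2, nat_lit 1, nat_lit 3, nat_lit 2, nat_lit 3, nat_lit 2, nat_lit 1, nat_lit 3, nat_lit 2, nat_lit 3, nat_lit 2, nat_lit 1, nat_lit 3, nat_lit 2, nat_lit 3, nat_lit 2, nat_lit 1],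
  []]
def spT_1_3 (j : ℕ) : ℕ := bif Nat.blt j 2 then nat_lit 0x3c00000002000000040000201e000020180000203d000020160000403d0000603b0000003a0000001800000041000000260001c0400000c038000000390000203a0000003b0000003a0000403e0000803b000100390000002c0000002c000000320000002400000042000000360000003200000024000000000000000e0000002c00000000000000360000001a000000320000001a00000000000000420000000e0000002c0000001000000038000020100000403c0000603d000000120000403b0000803a0000203b0000803b000000220000000c000020020000203f000000240000403c0000403f00000024000000160000003e0000203e00000036 else nat_lit 0x404000002028000020220003204100024040000120400002804100014041000040410002204100018041000100400000000e00000024000000000000000e00000024000000360000002c000000320000603c000020390000c0380000403d0000803a0000403b0000203d000020340000403900000030000020120000003d000000200000603c000020140000001400002008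
def spT_0_3 (j : ℕ) : ℕ := bif Nat.blt j 1 then nat_lit 0x32000000000000000e0000603d0000203c0000a0380000001c0000003d0000003400000038000020020000200a0000201c000060380000202600000002000020340000202e0000001a0000001a0000000e0000203b0000003f000020040000001e000000080000403800000018000020280000003c00002016000020100000203000000026000000140000000600002020000000200000202a000000120000003600000032000000000000003f0000403a0000000a000000040000002e0000002800000016000020220000201e000000100000200c00002008000020060000201800002014000020120000603a000000300000002a000000220000000c else (spT_1_3 j)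
def spT (j : ℕ) : ℕ := (spT_0_3 j)
def sp (j : ℕ) : ℕ := Nat.land (Nat.shiftRight (spT (Nat.shiftRight j 6)) (Nat.mul (Nat.land j 63) 32)) 4294967295
theorem Eo_lt (r : ℕ) : Eo r < 18014398509481984 := land54_lt _
def cT_1_3 (j : ℕ) : ℕ := bif Nat.blt j 2 then nat_lit 0x1a40001a30001a000019f00019e00019c00019b00019a00019900019700019500019400019300019000018700018600018400018300018200018100018000017f00017d00017c00017b00017a00017900017800017700017600017500017400017000016f00016e00016500016300016100015f00015e00015300015200015100015000014f00014a00014800014700012e00012c00012b00012a00012900012800012700012500012400012300011e00011d00011900011800011700011600011500011400011300010f00010e00010d00010b00010a0001090001080000fb0000fa0000f90000f80000f70000f60000f50000f40000f20000f10000f00000ef0000e90000e80000e70000e40000e30000e20000e00000df0000de0000dd0000dc0000db0000da0000d80000d60000d40000d30000d20000d10000d00000cf0000ce0000cd0000cc0000cb0000ca0000c80000c30000c10000bf0000be0000b90000b80000b70000b30000b20000a30000a20000a10000a000009f00009b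 else nat_lit 0x3070003060003040003030003020003010003000002ff0002fe0002fd0002fc0002f70002f50002f40002f30002f20002ec0002d90002d80002d60002d50002d40002d30002d20002d10002c90002c70002c60002c50002c40002c30002bc0002bb0002ba0002b90002b80002b10002ae0002ad0002ac00029e00029d00029c00029500029300029100029000028f00027500027400027300027200027100026600026400026300023800023700023600023500023400023300023200023100023000022f00022e00022900022800022600021d00021c00021a00021900021800021300021200021000020e00020d00020c00020b00020a0002090002080002070002060002050002040001fc0001fb0001f90001f80001f40001f30001f20001f00001ef0001ee0001ed0001ec0001d90001d80001d70001d60001d50001d20001d10001d00001cf0001ce0001cd0001cc0001cb0001ca0001c90001c50001c40001c30001c10001c00001bf0001be0001af0001ae0001ac0001ab0001a6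
def cT_0_3 (j : ℕ) : ℕ := bif Nat.blt j 1 then nat_lit 0x9a00009900009800009700009600009400009300009200009100008b00008a00008900008800008700008600008500008400008300008100008000007f00007d00007c00007b00007a00007900007800007700007600007500007400007300007200007100006c00006a00006900006700006600006500006300005f00005b00005a00005900005800005700005600005500005400005300005200005100005000004e00004d00004c00004b00004a00004900004800004700004600004500004400004300004200004100004000003f00003d00003c00003b00003a00003900003700003600003500003400003300003200003100003000002f00002e00002d00002c00002b00002a00002900002800002700002600002500002400002200002100001f00001e00001d00001c00001b00001a00001900001800001700001600001500001400001300001200001100001000000f00000e00000d00000c00000b00000a000009000007000006000005000004000003000002000001000000 else (cT_1_3 j)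
def cT_3_5 (j : ℕ) : ℕ := bif Nat.blt j 4 then nat_lit 0x47100047000045800045700045500045400044f00044d00044c00044a00044800044700044600044500044400043400043300043200043100043000042f00042e0004230004220004210004200003ff0003fe0003fb0003fa0003f80003f60003f50003f40003f30003f10003f00003ee0003ed0003eb0003e70003e30003dc0003d80003d50003ce0003cd0003cc0003cb0003ca0003c20003c10003c00003bf0003be0003bd0003bc0003bb0003ba0003b90003b80003b70003b60003b50003b40003b30003b20003b10003b00003af0003ae0003ad0003a70003a60003a300039a00039700039600039500039400039300039200039100039000038f00038e00038d00038c00038b00038a00037000036f00036e00036d00036c00036b00036a00036000035f00035c00035b00035a00035900035800035700035600035500035400035300035200035100035000034f00034e00034d00034100034000033f00033d00033c00033b00033a00033900031e00031c00030e00030d000309 else nat_lit 0x57b00057a00057900057800057700057600057500057400057300057200057100057000056f0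0056d00056c00056b00056a00056900056800056700056300056200056100055e00055c00055a00055500054d00054c00054a00054900054800054400054300054200054100054000053f00053e00053d00053c00053b00053a00053900053800053700053600053500053400053300053200053100053000052f00052e00052d00052c00052400052000051f00051e00051d00051c00051b00051a0005190005180005170005160005150005000004f20004e90004e80004e70004e60004e50004e30004e20004e10004e00004de0004dd0004dc0004db0004da0004d90004d80004d70004d60004d50004d40004d20004d00004ce0004cd0004cc0004cb0004ca0004c90004c10004ad0004ac0004ab0004aa0004a90004a80004a70004a60004a50004a40004a30004a20004a1000498000496000495000494000493000492000491000486000485000484000483000482000475000472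
def cT_5_7 (j : ℕ) : ℕ := bif Nat.blt j 6 then nat_lit 0x63800063700063600063500063400063300063200063100063000062f00062e00062d00062c00062a00062800062600062500062400062300062200062100062000061f00061e00061c00061a00061900061800061700061600061500061400061300061200061100061000060f00060e00060d00060c00060b0006090006080006070006060006050006040006030006020006010006000005fe0005fc0005fa0005f90005f80005f60005f50005f30005f20005ef0005ed0005ec0005eb0005e70005e60005e50005e20005e10005e00005df0005de0005dd0005dc0005db0005d70005d50005d00005ce0005cc0005c90005c40005c20005c00005b80005b70005b60005b50005b40005b30005b20005b10005b00005ab0005aa0005a90005a80005a70005a60005a50005a40005a000059f00059e00059d00059c00059b00059a00059900059800059700059500059400059200059000058f00058e00058d00058c00058b00058a00058900058800058700058400057f00057d00057c else nat_lit 0x6d70006d60006d50006d40006d30006d20006cd0006cc0006cb0006ca0006c90006c80006c70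006c60006c40006c30006c20006c10006bf0006be0006bd0006b90006b80006b70006b60006b50006b30006b20006b10006af0006ae0006ad0006a90006a80006a60006a40006a30006a20006a10006a000069f00069e00069d00069c00069b00069a00069900069800069700069600069500069400069300069200069100069000068f00068e00068d00068c00068b00068a00068600068500068400068300068200068100068000067f00067e00067d00067c00067b00067a00067900067800067600067500067400067300067200067100067000066f00066c00066b00066a00066800066600066500066400066300066200066100066000065f00065e00065d00065c00065b00065a00065900065800065700065600065500065400065300065200065100065000064f00064e00064d00064b00064a00064900064800064700064500064400064200064100063e00063c00063a000639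
def cT_3_7 (j : ℕ) : ℕ := bif Nat.blt j 5 then (cT_3_5 j) else (cT_5_7 j)
def cT_0_7 (j : ℕ) : ℕ := bif Nat.blt j 3 then (cT_0_3 j) else (cT_3_7 j)
def cT_8_10 (j : ℕ) : ℕ := bif Nat.blt j 9 then nat_lit 0x8e90008e80008e60008e50008e30008e20008e10008e00008df0008de0008dd0008dc0008db0008da0008d90008d70008d60008d50008d40008d20008cf0008cd0008cb0008c90008c70008c40008c20008c10008c00008b80008b70008b60008b30008b20008b10008b00008ac0008ab0008aa0008a90008a60008a50008a400089e00089a00089400089300089200089100088f00088e00088d00088c00088b00088900088800088600088500088200088000087e00087d00087c00087b00087a00086d00086a00086900086800086600086500086400086300086200086100085f00085e00085900085500085400085200085000084f00084e00084d00084c00084b00084a00084900084800084700084600084500084400084300084100083f00083e00083d00083c00083b00083a00083900083400083200083000082e00082d00082c00082b00082900082800082700082600082500082400082300082100082000081f00081d000818000817000816000815000814000811000809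 else nat_lit 0xa49000a47000a34000a31000a30000a2c000a2a000a1e000a1b000a14000a13000a0e000a09000a060009ff0009fc0009fa0009f90009e60009e50009e30009e20009d30009d20009d10009d00009cf0009cd0009cc0009cb0009bb0009ba0009b90009b80009b70009b60009b40009b30009ad0009ac0009ab0009aa0009a10009a000099900099100098600098500098400098200097100096200096100096000095f00095d00095c00095a00095800095700095600095500095400095300095200095000094f00094e00094d00094b00094a00094900094600094500094400094300094000093e00093c00093a00093800093700093600092c00092b00092a00092900092800092700092600092400092300092200092100092000091f00091e00091c00091b00091a00091900091800091700091600091500091400091300090e00090d00090c00090b00090a0009080009070009060009050009040009020009010009000008ff0008fe0008fd0008f60008f10008f00008ef0008eb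
def cT_7_10 (j : ℕ) : ℕ := bif Nat.blt j 8 then nat_lit 0x8080008070008060008010008000007ff0007fa0007f80007f50007ef0007ee0007ec0007e60007e50007e40007e30007e20007e10007e00007de0007dd0007dc0007d90007d70007d60007cf0007ce0007ca0007be0007b50007a000079f00079e00079d00079c00079a00079900079800079700079500079400078500078400078200077f00077e00077d00077900077800077700077600077100077000076f00076e00076d00076c00076600076500076400076300076200076100076000075f00075c00075b00075900075400074e00074c00074b00074900074800074700074600074200074100074000073f00073d00073a00073900073200072c00072a00072800072700072600072500072400072300072200072000071f00071e00071d00071c00071b00071a00071900071600071500071400071100071000070e00070c00070b0007060007050007040007010006ff0006fc0006fb0006fa0006f90006f70006f60006f50006f40006e70006e40006e20006e10006e00006d8 else (cT_8_10 j)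
def cT_10_12 (j : ℕ) : ℕ := bif Nat.blt j 11 then nat_lit 0xc48000c3f000c3e000c3b000c39000c32000c31000c2b000c2a000c26000c24000c23000c22000c1e000c1c000c1b000c16000c15000c14000c13000c10000c0b000c0a000c09000c03000c00000bff000bfe000bfd000bfc000bfb000bfa000bf7000bf4000bf3000bf2000be8000be7000be5000bdb000bd9000bd7000bd1000bcf000bc3000bb7000bb6000bb5000bb2000bb1000bb0000baf000bae000bad000bab000baa000ba6000b9e000b9b000b9a000b98000b8d000b8c000b70000b49000b48000b44000b43000b42000b3f000b39000b38000b37000b31000b30000b2e000b11000b10000b03000afa000af9000af7000af5000af4000af3000af2000ae7000ae6000ae4000ae3000ae1000ade000ad2000ad1000ad0000acf000ac6000ac5000ac4000ac3000abe000abc000ab8000ab7000aa6000a9b000a98000a8f000a8a000a89000a88000a87000a86000a7c000a7b000a7a000a70000a6d000a61000a5f000a5e000a5c000a5b000a4f000a4e000a4c000a4b000a4a else nat_lit 0xdd5000dce000dca000dc9000dc8000dc7000dc6000dc5000dc4000dbf000dbd000dbc000d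b9000db1000db0000daf000dae000da9000da8000da5000da0000d9e000d9b000d98000d96000d95000d93000d92000d90000d8f000d81000d77000d75000d72000d6c000d6b000d6a000d68000d64000d63000d5e000d5d000d5c000d5b000d5a000d59000d58000d57000d54000d4f000d4e000d4b000d4a000d45000d44000d40000d3a000d36000d35000d34000d32000d2e000d2b000d28000d27000d26000d25000d24000d23000d14000d12000d0b000d08000d05000cfa000cf9000cee000cec000cea000ce9000ce8000cd9000cca000cc2000cc1000cc0000cbd000cbc000cbb000cba000cb6000cb5000cb4000cb3000cb0000caf000cae000ca8000ca4000ca0000c9a000c98000c81000c7b000c7a000c78000c77000c76000c75000c74000c73000c6d000c6a000c67000c66000c64000c61000c60000c5e000c5d000c5a000c59000c58000c57000c54000c50000c4f000c4b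
def cT_12_14 (j : ℕ) : ℕ := bif Nat.blt j 13 then nat_lit 0x125b00124e00124d00124c00124a00123900123300121f00121e00121300121100120e00120d00120c00120b00120a0012090012080012060012050012040012030012020012000011ff0011e80011e60011e50011e40011e10011e00011d20011d10011aa0011590011550011160010f10010f00010e20010ab0010a80010a70010a500109700109300108b00108a00108000107e00102f00102a001027001014001013001012000fe9000fe5000fc4000fc2000fc1000fb8000fb5000f8c000f81000f56000f4f000f38000f24000f23000f20000f04000ef4000ef3000eda000ed8000ed5000ed4000ed1000ec1000ec0000ebe000ebb000eba000ea4000e77000e4c000e4b000e4a000e49000e46000e36000e35000e34000e32000e31000e30000e24000e23000e22000e21000e1c000e1b000e1a000e18000e0f000e0c000e08000e03000df7000dea000de9000de8000de7000de4000de3000de2000de1000de0000dde000ddd000ddc000ddb000dda000dd9000dd8000dd7000dd6 else nat_lit 0x1beb001bea001be9001bc2001aa6001aa4001aa3001a7a001a4d00196800195c00195b00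195600195500194a0019490019480019300018fe0018fc0018fb00187d00183f00183d00181a00180d0017cb0017b300177600177000176900170c0016fd0016880016750016730016710016040015fe0015fc0015d90015d60015c70015c50015bf0015a400157700156400156300156200156000155c00155a00155900155700154900154700154600153200152e00151c0015180015070014f70014f10014c90014c00014b30014b10014a20014a100149200146d00146000145700145600145300145200144f0014360013b10013a70013a000139e00139d00139c00139900139300139100139000138000137700134600133e00133900132a00132900132500131e00131600131300131200130c00130b0013090012bd0012bc0012b20012ac0012a700129600129500129100128f00128400127b00127200126a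
def cT_10_14 (j : ℕ) : ℕ := bif Nat.blt j 12 then (cT_10_12 j) else (cT_12_14 j)
def cT_7_14 (j : ℕ) : ℕ := bif Nat.blt j 10 then (cT_7_10 j) else (cT_10_14 j)
def cT_0_14 (j : ℕ) : ℕ := bif Nat.blt j 7 then (cT_0_7 j) else (cT_7_14 j)
def cT (j : ℕ) : ℕ := (cT_0_14 j)
noncomputable def cChunk (h : ℕ) : ℕ := Nat.rec (motive := fun _ => ℕ) (cT 0) (fun n _ => cT (Nat.succ n)) h
noncomputable def cF (i : ℕ) : ℕ := Nat.land (Nat.shiftRight (cChunk (Nat.shiftRight i 7)) (Nat.mul (Nat.land i 127) 24)) 16777215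
theorem cF_lt (i : ℕ) : cF i < 16777216 := land24_lt _
theorem cF_zero : cF 0 = 0 := by decide +kernel
def nDef : ℕ := 7147
def nEv : ℕ := 23492
def nW : ℕ := 165
def N : ℕ := 1782
def ys : List ℕ := [nat_lit 0, nat_lit 1, nat_lit 2, nat_lit 3, nat_lit 4, nat_lit 5, nat_lit 6]
def Js : List ℕ := [nat_lit 0, nat_lit 1, nat_lit 2, nat_lit 3, nat_lit 4, nat_lit 5, nat_lit 6]
def Jp : List ℕ := [nat_lit 0, nat_lit 1, nat_lit 2, nat_lit 3, nat_lit 4, nat_lit 5]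
end Cfsg.Agent.Lib.ToddCox.SuzC0
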